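import Cfsg.Agent.Lib.KnownA.G2Invol.Main
import Cfsg.Agent.Lib.Classical.LinearCard
import Cfsg.Agent.Lib.KnownA.GL2Classes
import Mathlib

/-!
The centralizer of an involution of `G₂(q)`, `q` odd.
-/

set_option autoImplicit false
set_option maxRecDepth 100000

namespace Cfsg.Agent.KnownA.G2Invol

open Cfsg.Lie Cfsg.Agent.Lib.Chev

variable {D : ChevalleyDatum} {T : Tables} {F : Type*} [Field F]

theorem phi_sd_eq (G : Good D T) {r : ℕ} (hr : r < D.nroots) (c : F) :
    G.phi hr (sd c) = G.Hg F r c := by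
  simp [sd, map_mul, G.phi_su, G.phi_sl, Good.Hg, Good.Ng, inv_neg]

theorem phi_sn_eq (G : Good D T) {r : ℕ} (hr : r < D.nroots) :
    G.phi (F := F) hr sn = G.Ng F r 1 := by
  simp [sn, map_mul, G.phi_su, G.phi_sl, Good.Ng]

theorem sl2_normal (g : Matrix.SpecialLinearGroup (Fin 2) F) :
    (∃ a c, c ≠ 0 ∧ g = su a * sd c) ∨ (∃ a c b, c ≠ 0 ∧ g = su a * sd c * sn * su b) := by
  have hd : g.1 0 0 * g.1 1 1 - g.1 0 1 * g.1 1 0 = 1 := by rw [← Matrix.det_fin_two]; exact g.2
  by_cases h10 : g.1 1 0 = 0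
  · have h00 : g.1 0 0 ≠ 0 := fun h => by simp [h, h10] at hd
    refine Or.inl ⟨g.1 0 1 * g.1 0 0, g.1 0 0, h00, Subtype.ext ?_⟩
    simp only [Matrix.SpecialLinearGroup.coe_mul, sd_val h00]
    rw [h10] at hd
    ext i j
    fin_cases i <;> fin_cases j <;> simp [su, h10, h00]
    field_simp
    linear_combination hd
  · refine Or.inr ⟨g.1 0 0 / g.1 1 0, -1 / g.1 1 0, g.1 1 1 / g.1 1 0, by simp [h10], Subtype.ext ?_⟩
    simp only [Matrix.SpecialLinearGroup.coe_mul, sd_val (show -1 / g.1 1 0 ≠ 0 by simp [h10]), sn_val]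
    ext i j
    fin_cases i <;> fin_cases j <;> simp [su, h10] <;> field_simp <;>
      first | ring1 | linear_combination hd | linear_combination -hd

theorem Ng_not_diag (G : Good D T) {r : ℕ} (hr : r < D.nroots) :
    G.Ng F r 1 ∉ D.diagonalSubgroup F := by
  intro h
  obtain ⟨-, c, hc, e⟩ := G.act_diag h r hr
  have h1 := (G.Ng_conj_X_self r hr (1 : F)).symm.trans (e 1)
  exact G.ng_ne hr (G.X_root_inj (G.ng_lt hr) hr (neg_ne_zero.2 one_ne_zero) h1)

theorem phi_injective (G : Good D T) {r s : ℕ} (hr : r < D.nroots) (hp : npos D ≤ r)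
    (hs : s < D.nroots) (h1 : P D T r s = 1 ∨ P D T r s = -1) :
    Function.Injective (G.phi (F := F) hr) := by
  rw [injective_iff_map_eq_one]
  intro g hg
  rcases sl2_normal g with ⟨a, c, hc, rfl⟩ | ⟨a, c, b, hc, rfl⟩
  · rw [map_mul, G.phi_su, phi_sd_eq G hr] at hg
    have hH := G.Hg_mem (F := F) hr hc
    have e : G.X F r a = (G.Hg F r c)⁻¹ := eq_inv_of_mul_eq_one_left hg
    have hX : G.X F r a = 1 := Subgroup.mem_bot.1 (G.pos_inf_diag (F := F) ▸
      Subgroup.mem_inf.2 ⟨G.X_mem_posUnipotent hr hp a, e ▸ inv_mem hH⟩)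
    have ha : a = 0 := (G.X_eq_one_iff hr a).1 hX
    rw [hX, one_mul] at hg
    have h2 := congrArg (fun z : GL D.Idx F => (z : Matrix D.Idx D.Idx F)) hg
    simp only [G.Hg_eq hr hc, Units.val_one] at h2
    have h3 := entry_eq_one_of_dmat_eq h2 hs
    have hc1 : c = 1 := by
      rcases h1 with e | e <;> rw [e] at h3 <;> simpa using h3
    subst ha; subst hc1
    refine Subtype.ext ?_
    simp only [Matrix.SpecialLinearGroup.coe_mul, sd_val one_ne_zero]
    ext i j
    fin_cases i <;> fin_cases j <;> simp [su]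
  · exfalso
    rw [map_mul, map_mul, map_mul, G.phi_su, G.phi_su, phi_sd_eq G hr, phi_sn_eq G hr] at hg
    have hB1 : G.X F r a * G.Hg F r c ∈ D.borelSubgroup F :=
      mul_mem (Subgroup.mem_sup_left (G.X_mem_posUnipotent hr hp a))
        (Subgroup.mem_sup_right (G.Hg_mem hr hc))
    have hB2 : G.X F r b ∈ D.borelSubgroup F := Subgroup.mem_sup_left (G.X_mem_posUnipotent hr hp b)
    have e : G.Ng F r 1 = (G.X F r a * G.Hg F r c)⁻¹ * (G.X F r b)⁻¹ := by
      calc G.Ng F r 1 = (G.X F r a * G.Hg F r c)⁻¹ *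
            (G.X F r a * G.Hg F r c * G.Ng F r 1 * G.X F r b) * (G.X F r b)⁻¹ := by group
        _ = _ := by rw [hg, mul_one]
    refine Ng_not_diag (F := F) G hr ?_
    rw [← G.borel_inf_monomial (F := F)]
    exact Subgroup.mem_inf.2 ⟨e ▸ mul_mem (inv_mem hB1) (inv_mem hB2),
      Subgroup.mem_sup_right (Subgroup.subset_closure ⟨r, hr, G.Ng_val hr 1⟩)⟩

theorem phi_le_group (G : Good D T) {r : ℕ} (hr : r < D.nroots)
    (g : Matrix.SpecialLinearGroup (Fin 2) F) : G.phi hr g ∈ D.group F := by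
  refine (G.phi_range (F := F) hr).le.trans (sup_le (fun x hx => ?_) fun x hx => ?_) ⟨g, rfl⟩
  · obtain ⟨t, rfl⟩ := G.mem_rootSubgroup.1 hx
    exact G.X_mem_group hr t
  · obtain ⟨t, rfl⟩ := G.mem_rootSubgroup.1 hx
    exact G.X_mem_group (G.ng_lt hr) t

theorem X_commute (G : Good D T) {r s : ℕ} (hr : r < D.nroots) (hs : s < D.nroots) (hne : s ≠ r)
    (hne' : s ≠ ng D r) (h : T.terms r s = []) (t u : F) :
    G.X F s u * G.X F r t = G.X F r t * G.X F s u := by
  have h1 := G.commAt r s hr hs hne hne' t u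
  rw [h1]
  simp [Good.cw, h, Good.wordG]

theorem six_lt : 6 < chevG2.nroots := by decide
theorem nine_lt : 9 < chevG2.nroots := by decide

/-- The first `SL₂`. -/
noncomputable def f6 (F : Type*) [Field F] : Matrix.SpecialLinearGroup (Fin 2) F →* GL chevG2.Idx F :=
  goodG2.phi six_lt

/-- The second `SL₂`. -/
noncomputable def f9 (F : Type*) [Field F] : Matrix.SpecialLinearGroup (Fin 2) F →* GL chevG2.Idx F :=
  goodG2.phi nine_lt

theorem f6_injective : Function.Injective (f6 F) :=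
  phi_injective goodG2 six_lt (show 6 ≤ 6 by decide) (show 7 < chevG2.nroots by decide) (by
    simp only [P, show chevG2.rank = 2 from rfl, Finset.sum_range_succ, Finset.sum_range_zero, zero_add]
    decide +kernel)

theorem f9_injective : Function.Injective (f9 F) :=
  phi_injective goodG2 nine_lt (show 6 ≤ 9 by decide) (show 7 < chevG2.nroots by decide) (by
    simp only [P, show chevG2.rank = 2 from rfl, Finset.sum_range_succ, Finset.sum_range_zero, zero_add]
    decide +kernel)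

theorem comm_pairs : ∀ r ∈ [6, 5], ∀ s ∈ [9, 2],
    s ≠ r ∧ s ≠ ng chevG2 r ∧ tabG2.terms r s = [] := by
  decide +kernel

theorem f_commute (a b : Matrix.SpecialLinearGroup (Fin 2) F) : Commute (f6 F a) (f9 F b) := by
  have key : ∀ r ∈ [6, 5], ∀ s ∈ [9, 2], ∀ t u : F,
      Commute (goodG2.X F r t) (goodG2.X F s u) := by
    intro r hr s hs t u
    obtain ⟨h1, h2, h3⟩ := comm_pairs r hr s hs
    have hr' : r < chevG2.nroots := by
      rcases List.mem_pair.1 hr with rfl | rfl <;> decide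
    have hs' : s < chevG2.nroots := by
      rcases List.mem_pair.1 hs with rfl | rfl <;> decide
    exact (X_commute goodG2 hr' hs' h1 h2 h3 t u).symm
  have h6 : (f6 F).range ≤ Subgroup.centralizer ((f9 F).range : Set (GL chevG2.Idx F)) := by
    rw [f6, goodG2.phi_range]
    have : ∀ r ∈ [6, 5], chevG2.rootSubgroup F r ≤
        Subgroup.centralizer ((f9 F).range : Set (GL chevG2.Idx F)) := by
      intro r hr x hx
      obtain ⟨t, rfl⟩ := goodG2.mem_rootSubgroup.1 hx
      rw [Subgroup.mem_centralizer_iff]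
      intro y hy
      have hy' : y ∈ Subgroup.centralizer ({goodG2.X F r t} : Set (GL chevG2.Idx F)) := by
        revert hy
        rw [SetLike.mem_coe, f9, goodG2.phi_range]
        refine fun hy => SetLike.le_def.1 (sup_le ?_ ?_) hy
        · intro z hz
          obtain ⟨u, rfl⟩ := goodG2.mem_rootSubgroup.1 hz
          exact Subgroup.mem_centralizer_singleton_iff.2 (key r hr 9 (by simp) t u).symm.eq
        · intro z hz
          obtain ⟨u, rfl⟩ := goodG2.mem_rootSubgroup.1 hz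
          exact Subgroup.mem_centralizer_singleton_iff.2
            (key r hr 2 (by simp) t u).symm.eq
      exact Subgroup.mem_centralizer_singleton_iff.1 hy'
    exact sup_le (this 6 (by simp)) (this 5 (by simp))
  exact (Subgroup.mem_centralizer_iff.1 (h6 ⟨a, rfl⟩) _ ⟨b, rfl⟩).symm

/-- The two `SL₂` together. -/
noncomputable def pairHom (F : Type*) [Field F] :
    Matrix.SpecialLinearGroup (Fin 2) F × Matrix.SpecialLinearGroup (Fin 2) F →* GL chevG2.Idx F :=
  (f6 F).noncommCoprod (f9 F) f_commute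

theorem pairHom_range : (pairHom F).range = (f6 F).range ⊔ (f9 F).range :=
  MonoidHom.noncommCoprod_range _ _ _

theorem P_six_parity : ∀ s < 12, ((P chevG2 tabG2 6 s) % 2 = 0 ↔ s ∈ [6, 5, 9, 2]) ∧
    (P chevG2 tabG2 6 s - P chevG2 tabG2 9 s) % 2 = 0 := by
  intro s hs
  simp only [P, show chevG2.rank = 2 from rfl, Finset.sum_range_succ, Finset.sum_range_zero, zero_add]
  revert s
  decide +kernel

theorem tZero_mem : tZero F ∈ chevG2.diagonalSubgroup F :=
  goodG2.Hg_mem six_lt (neg_ne_zero.2 one_ne_zero)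

theorem tZero_eq_nine : tZero F = goodG2.Hg F 9 (-1) := by
  have hu : (-1 : F) ≠ 0 := neg_ne_zero.2 one_ne_zero
  refine Units.ext ?_
  rw [tZero, goodG2.Hg_eq six_lt hu, goodG2.Hg_eq nine_lt hu]
  refine dmat_congr fun s hs => ?_
  obtain ⟨m, hm⟩ := Int.even_iff.2 (P_six_parity s hs).2
  rw [show P chevG2 tabG2 6 s = P chevG2 tabG2 9 s + 2 * m by omega, zpow_add₀ hu, zpow_mul]
  simp

theorem tZero_conj_X {s : ℕ} (hs : s < 12) (t : F) :
    tZero F * goodG2.X F s t * (tZero F)⁻¹ =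
      goodG2.X F s ((if s ∈ [6, 5, 9, 2] then 1 else -1) * t) := by
  rw [tZero, goodG2.Hg_conj_X six_lt (show s < chevG2.nroots from hs) (neg_ne_zero.2 one_ne_zero)]
  congr 2
  split
  next h =>
    exact (Int.even_iff.2 ((P_six_parity s hs).1.2 h)).neg_one_zpow
  next h =>
    refine (Int.odd_iff.2 ?_).neg_one_zpow
    have := mt (P_six_parity s hs).1.1 h
    omega

theorem tZero_comm_pair (x : GL chevG2.Idx F) (hx : x ∈ (f6 F).range ⊔ (f9 F).range) :
    tZero F * x = x * tZero F := by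
  have h : (f6 F).range ⊔ (f9 F).range ≤ Subgroup.centralizer ({tZero F} : Set (GL chevG2.Idx F)) := by
    have key : ∀ r ∈ [6, 5, 9, 2], chevG2.rootSubgroup F r ≤
        Subgroup.centralizer ({tZero F} : Set (GL chevG2.Idx F)) := by
      intro r hr z hz
      obtain ⟨u, rfl⟩ := goodG2.mem_rootSubgroup.1 hz
      have hr' : r < 12 := by simp at hr; omega
      refine Subgroup.mem_centralizer_singleton_iff.2 ?_
      have h := tZero_conj_X (F := F) hr' u
      rw [if_pos hr, one_mul] at h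
      exact (mul_inv_eq_iff_eq_mul.1 h).symm
    rw [f6, f9, goodG2.phi_range, goodG2.phi_range]
    exact sup_le (sup_le (key 6 (by simp)) (key 5 (by simp)))
      (sup_le (key 9 (by simp)) (key 2 (by simp)))
  exact (Subgroup.mem_centralizer_singleton_iff.1 (h hx)).symm

theorem eq_zero_of_neg_eq (h2 : (2 : F) ≠ 0) {x : F} (h : -x = x) : x = 0 := by
  have : (2 : F) * x = 0 := by linear_combination -h
  exact (mul_eq_zero.1 this).resolve_left h2

theorem pos_fixed (h2 : (2 : F) ≠ 0) {u : GL chevG2.Idx F} (hu : u ∈ chevG2.posUnipotent F)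
    (hfix : tZero F * u * (tZero F)⁻¹ = u) : u ∈ (f6 F).range ⊔ (f9 F).range := by
  rw [← goodG2.tail_npos] at hu
  obtain ⟨t, rfl⟩ := goodG2.exists_oprod (npos chevG2) (npos chevG2) le_rfl (by decide) u hu
  rw [show npos chevG2 = 6 from rfl] at hfix ⊢
  have e : ∀ t : ℕ → F, goodG2.oprod F 6 6 t = goodG2.X F 6 (t 6) * (goodG2.X F 7 (t 7) *
      (goodG2.X F 8 (t 8) * (goodG2.X F 9 (t 9) * (goodG2.X F 10 (t 10) * goodG2.X F 11 (t 11))))) := by
    intro t
    simp [Good.oprod, Good.wordG, List.range'_succ]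
  set t' : ℕ → F := fun s => (if s ∈ [6, 5, 9, 2] then 1 else -1) * t s with ht'
  have hconj : tZero F * goodG2.oprod F 6 6 t * (tZero F)⁻¹ = goodG2.oprod F 6 6 t' := by
    have h := fun s (hs : s < 12) => tZero_conj_X (F := F) hs (t s)
    rw [e, e, ht']
    calc tZero F * (goodG2.X F 6 (t 6) * (goodG2.X F 7 (t 7) * (goodG2.X F 8 (t 8) *
          (goodG2.X F 9 (t 9) * (goodG2.X F 10 (t 10) * goodG2.X F 11 (t 11)))))) * (tZero F)⁻¹
        = (tZero F * goodG2.X F 6 (t 6) * (tZero F)⁻¹) * ((tZero F * goodG2.X F 7 (t 7) * (tZero F)⁻¹) *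
          ((tZero F * goodG2.X F 8 (t 8) * (tZero F)⁻¹) * ((tZero F * goodG2.X F 9 (t 9) * (tZero F)⁻¹) *
          ((tZero F * goodG2.X F 10 (t 10) * (tZero F)⁻¹) *
            (tZero F * goodG2.X F 11 (t 11) * (tZero F)⁻¹))))) := by group
      _ = _ := by
        rw [h 6 (by decide), h 7 (by decide), h 8 (by decide), h 9 (by decide), h 10 (by decide),
          h 11 (by decide)]
  rw [hfix] at hconj
  have hz : ∀ s, 6 ≤ s → s < 12 → s ∉ [6, 5, 9, 2] → t s = 0 := by
    intro s h1 h3 h4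
    have h := goodG2.oprod_injective 6 6 (show 6 ≤ 6 by decide) (show 6 + 6 = 12 by decide) t t'
      hconj s h1 (by omega)
    rw [ht'] at h
    simp only [if_neg h4, neg_mul, one_mul] at h
    exact eq_zero_of_neg_eq h2 h.symm
  rw [e, hz 7 (by decide) (by decide) (by decide), hz 8 (by decide) (by decide) (by decide),
    hz 10 (by decide) (by decide) (by decide), hz 11 (by decide) (by decide) (by decide)]
  simp only [goodG2.X_zero, one_mul, mul_one]
  refine mul_mem (Subgroup.mem_sup_left ⟨su (t 6), goodG2.phi_su six_lt _⟩)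
    (Subgroup.mem_sup_right ⟨su (t 9), goodG2.phi_su nine_lt _⟩)

theorem pair_word_cases : ∀ v ∈ words,
    (∀ s : Fin 12, (wl tabG2 v s.val ∈ [6, 5, 9, 2]) ↔ (s.val ∈ [6, 5, 9, 2])) →
    v = [] ∨ v = [1] ∨ v = [0, 1, 0, 1, 0] ∨ v = [0, 1, 0, 1, 0, 1] := by
  decide +kernel

/-- `L₁ L₂ H`. -/
noncomputable def bigC (F : Type*) [Field F] : Subgroup (GL chevG2.Idx F) :=
  (f6 F).range ⊔ (f9 F).range ⊔ chevG2.diagonalSubgroup F

theorem nl_refl_mem : goodG2.nl F [0, 1, 0, 1, 0] ∈ bigC F := by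
  have hW : IsW chevG2 [0, 1] := by intro i hi; simp at hi; rcases hi with rfl | rfl <;> decide
  have e1 := goodG2.nl_conj_Ng (F := F) hW (show 7 < chevG2.nroots by decide) 1
  rw [show wl tabG2 [0, 1] 7 = 9 by decide +kernel, mul_one] at e1
  have e2 : goodG2.nl F [0, 1, 0, 1, 0] = (goodG2.nl F [0, 1] * goodG2.Ng F 7 1 * (goodG2.nl F [0, 1])⁻¹) *
      (goodG2.nl F [0, 1] * goodG2.nl F [1, 0]) := by
    have : goodG2.Ng F 7 1 = goodG2.nl F [0] := by simp [Good.nl, Good.ni, sim_zero]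
    rw [this, show [0, 1, 0, 1, 0] = [0, 1] ++ [0] ++ [1, 0] from rfl, goodG2.nl_append,
      goodG2.nl_append]
    group
  rw [e2, e1]
  refine mul_mem (Subgroup.mem_sup_left (Subgroup.mem_sup_right ?_)) (Subgroup.mem_sup_right ?_)
  · rw [f9, goodG2.phi_range, Good.Ng]
    exact mul_mem (mul_mem (Subgroup.mem_sup_left (goodG2.mem_rootSubgroup.2 ⟨_, rfl⟩))
      (Subgroup.mem_sup_right (goodG2.mem_rootSubgroup.2 ⟨_, rfl⟩)))
      (Subgroup.mem_sup_left (goodG2.mem_rootSubgroup.2 ⟨_, rfl⟩))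
  · rw [← goodG2.nl_append]
    refine goodG2.nl_mem_diag _ rfl (hW.append ?_) fun s hs => ?_
    · intro i hi; simp at hi; rcases hi with rfl | rfl <;> decide
    · rw [wl_append]
      exact goodG2.wl_wl_reverse hW hs

theorem centralizer_le (hodd : (2 : F) ≠ 0) {g : GL chevG2.Idx F} (hg : g ∈ chevG2.group F)
    (hc : tZero F * g = g * tZero F) : g ∈ bigC F := by
  obtain ⟨b, hb, n, l, hl, u, hu, rfl⟩ := goodG2.exists_normal_form hg
  obtain ⟨v, hv, h, hh, rfl⟩ := goodG2.mem_borel.1 hb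
  set τ := tZero F with hτ
  have hτH : τ ∈ chevG2.diagonalSubgroup F := tZero_mem
  have hn := goodG2.monomial_of_rep hl
  set d := τ * (n * τ⁻¹ * n⁻¹) with hd
  have hdH : d ∈ chevG2.diagonalSubgroup F :=
    mul_mem hτH ((Subgroup.mem_normalizer_iff.1 (goodG2.monomial_le_normalizer hn) _).1 (inv_mem hτH))
  have hu' : τ * u * τ⁻¹ ∈ goodG2.USub F (flipSet chevG2 tabG2 l) :=
    (Subgroup.mem_normalizer_iff.1 (goodG2.diag_normalizes _ hτH) u).1 hu
  have hv' : τ * v * τ⁻¹ ∈ chevG2.posUnipotent F :=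
    (Subgroup.mem_normalizer_iff.1 (goodG2.diag_normalizes_pos hτH) v).1 hv
  have e : (τ * v * τ⁻¹) * (τ * h * τ⁻¹ * d) * n * (τ * u * τ⁻¹) = v * h * n * u := by
    calc (τ * v * τ⁻¹) * (τ * h * τ⁻¹ * d) * n * (τ * u * τ⁻¹)
        = τ * (v * h * n * u) * τ⁻¹ := by rw [hd]; group
      _ = v * h * n * u := by rw [hc, mul_inv_cancel_right]
  have hhd : τ * h * τ⁻¹ * d = h * d := by
    rw [goodG2.diagonal_comm hτH hh, mul_inv_cancel_right]
  rw [hhd] at e
  obtain ⟨eb, eu⟩ := goodG2.normal_form_unique hl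
    (mul_mem (Subgroup.mem_sup_left hv') (Subgroup.mem_sup_right (mul_mem hh hdH)))
    (mul_mem (Subgroup.mem_sup_left hv) (Subgroup.mem_sup_right hh)) hu' hu e
  have hx : v⁻¹ * (τ * v * τ⁻¹) = h * (h * d)⁻¹ := by
    calc v⁻¹ * (τ * v * τ⁻¹) = v⁻¹ * (τ * v * τ⁻¹ * (h * d)) * (h * d)⁻¹ := by group
      _ = _ := by rw [eb]; group
  have hv1 : v⁻¹ * (τ * v * τ⁻¹) = 1 := Subgroup.mem_bot.1 (goodG2.pos_inf_diag (F := F) ▸
    Subgroup.mem_inf.2 ⟨mul_mem (inv_mem hv) hv', hx ▸ mul_mem hh (inv_mem (mul_mem hh hdH))⟩)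
  have hvfix : τ * v * τ⁻¹ = v := (inv_mul_eq_one.1 hv1).symm
  rw [hvfix] at eb
  have hd1 : d = 1 := by simpa using eb
  have hnfix : τ * n = n * τ := by
    calc τ * n = d * n * τ := by rw [hd]; group
      _ = n * τ := by rw [hd1, one_mul]
  have hV : v ∈ bigC F := Subgroup.mem_sup_left (pos_fixed hodd hv hvfix)
  have hU : u ∈ bigC F := Subgroup.mem_sup_left (pos_fixed hodd (goodG2.USub_le_pos _ hu) eu)
  refine mul_mem (mul_mem (mul_mem hV (Subgroup.mem_sup_right hh)) ?_) hU
  obtain ⟨w, hw, ew⟩ := exists_word hl.1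
  have hW := words_isW w hw
  have hh0 := factor_of_wl goodG2 hl hW ew
  have hn' : n = n * (goodG2.nl F w)⁻¹ * goodG2.nl F w := by group
  rw [hn']
  refine mul_mem (Subgroup.mem_sup_right hh0) ?_
  have hpar : ∀ s : Fin 12, (wl tabG2 w s.val ∈ [6, 5, 9, 2]) ↔ (s.val ∈ [6, 5, 9, 2]) := by
    intro s
    obtain ⟨hlt, c, hc0, ec⟩ := goodG2.rep_act hl s.val s.isLt
    rw [ew _ s.isLt] at hlt ec
    have h1 := tZero_conj_X (F := F) hlt c
    have h3 : goodG2.X F (wl tabG2 w s.val) c = n * goodG2.X F s.val 1 * n⁻¹ := by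
      rw [ec 1, mul_one]
    rw [← hτ, h3] at h1
    have h4 : τ * (n * goodG2.X F s.val 1 * n⁻¹) * τ⁻¹ =
        n * (τ * goodG2.X F s.val 1 * τ⁻¹) * n⁻¹ := by
      calc τ * (n * goodG2.X F s.val 1 * n⁻¹) * τ⁻¹
          = (τ * n) * goodG2.X F s.val 1 * (τ * n)⁻¹ := by group
        _ = _ := by rw [hnfix]; group
    rw [h4, hτ, tZero_conj_X s.isLt, ec] at h1
    have h5 := goodG2.X_injective hlt h1
    by_cases ha : s.val ∈ [6, 5, 9, 2] <;> by_cases hb : wl tabG2 w s.val ∈ [6, 5, 9, 2] <;>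
      simp only [ha, hb, if_true, if_false, iff_self] at h5 ⊢
    · exact absurd (eq_zero_of_neg_eq hodd (by linear_combination -h5)) hc0
    · exact absurd (eq_zero_of_neg_eq hodd (by linear_combination h5)) hc0
  have hni : goodG2.nl F [1] ∈ bigC F := by
    rw [goodG2.nl_single, Good.ni, sim_one, ← phi_sn_eq goodG2 six_lt]
    exact Subgroup.mem_sup_left (Subgroup.mem_sup_left ⟨sn, rfl⟩)
  rcases pair_word_cases w hw hpar with rfl | rfl | rfl | rfl
  · rw [goodG2.nl_nil]; exact one_mem _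
  · exact hni
  · exact nl_refl_mem
  · rw [show [0, 1, 0, 1, 0, 1] = [0, 1, 0, 1, 0] ++ [1] from rfl, goodG2.nl_append]
    exact mul_mem nl_refl_mem hni

theorem mem_bigC_iff (hodd : (2 : F) ≠ 0) {g : GL chevG2.Idx F} :
    g ∈ bigC F ↔ g ∈ chevG2.group F ∧ tZero F * g = g * tZero F := by
  constructor
  · intro h
    have hle : bigC F ≤ chevG2.group F ⊓ Subgroup.centralizer ({tZero F} : Set (GL chevG2.Idx F)) := by
      refine sup_le (fun x hx => Subgroup.mem_inf.2 ⟨?_, ?_⟩) fun x hx => Subgroup.mem_inf.2 ⟨?_, ?_⟩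
      · refine SetLike.le_def.1 (sup_le ?_ ?_) hx
        · rintro _ ⟨y, rfl⟩; exact phi_le_group goodG2 six_lt y
        · rintro _ ⟨y, rfl⟩; exact phi_le_group goodG2 nine_lt y
      · exact Subgroup.mem_centralizer_singleton_iff.2 (tZero_comm_pair x hx).symm
      · exact goodG2.monomial_le_group (Good.diagonal_le_monomial hx)
      · exact Subgroup.mem_centralizer_singleton_iff.2 (goodG2.diagonal_comm hx tZero_mem)
    obtain ⟨h1, h2⟩ := Subgroup.mem_inf.1 (hle h)
    exact ⟨h1, (Subgroup.mem_centralizer_singleton_iff.1 h2).symm⟩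
  · exact fun ⟨h1, h2⟩ => centralizer_le hodd h1 h2

theorem diag_mem_pair_iff {h : GL chevG2.Idx F} {χ : ℕ → F} (hh : h ∈ chevG2.diagonalSubgroup F)
    (hχ : (h : Matrix chevG2.Idx chevG2.Idx F) = dmat chevG2 χ) :
    h ∈ (f6 F).range ⊔ (f9 F).range ↔ IsSquare (χ 6) := by
  obtain ⟨ξ, hξ, hc, hk⟩ := diag_val goodG2 hh
  have eχ : ∀ s < 12, χ s = ξ s := fun s hs => entry_eq_of_dmat_eq (hχ.symm.trans hξ) hs
  constructor
  · intro hm
    rw [← pairHom_range] at hm
    obtain ⟨⟨A, B⟩, hAB⟩ := hm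
    have hAB' : f6 F A * f9 F B = h := hAB
    have hconj : h * goodG2.X F 6 1 * h⁻¹ = f6 F (A * su 1 * A⁻¹) := by
      have hs : goodG2.X F 6 1 = f6 F (su 1) := (goodG2.phi_su six_lt 1).symm
      rw [← hAB', hs, map_mul, map_mul, map_inv]
      calc f6 F A * f9 F B * f6 F (su 1) * (f6 F A * f9 F B)⁻¹
          = f6 F A * (f9 F B * f6 F (su 1) * (f9 F B)⁻¹) * (f6 F A)⁻¹ := by group
        _ = _ := by rw [← (f_commute (su 1) B).eq, mul_inv_cancel_right]
    rw [goodG2.diag_conj_X hξ hc six_lt, mul_one, ← goodG2.phi_su six_lt] at hconj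
    have hA : su (ξ 6) = A * su 1 * A⁻¹ := f6_injective hconj
    rw [eq_mul_inv_iff_mul_eq] at hA
    have h2 := congrArg Subtype.val hA
    simp only [Matrix.SpecialLinearGroup.coe_mul] at h2
    have h00 := congrFun (congrFun h2 0) 0
    have h01 := congrFun (congrFun h2 0) 1
    simp [su, Matrix.mul_apply, Fin.sum_univ_two] at h00 h01
    have hd : A.1 0 0 * A.1 1 1 - A.1 0 1 * A.1 1 0 = 1 := by rw [← Matrix.det_fin_two]; exact A.2
    refine ⟨A.1 0 0, ?_⟩
    rw [eχ 6 (by decide)]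
    have h10 : A.1 1 0 = 0 := by
      rcases h00 with h | h
      · exact absurd h (hc.ne_zero six_lt)
      · exact h
    rw [h10] at hd
    have h01' : ξ 6 * A.1 1 1 = A.1 0 0 := by linear_combination h01
    linear_combination (-ξ 6) * hd + A.1 0 0 * h01'
  · rintro ⟨c, hc6⟩
    rw [eχ 6 (by decide)] at hc6
    have hc0 : c ≠ 0 := fun h0 => hc.ne_zero six_lt (by simpa [h0] using hc6)
    set e := ξ 7 * c with he
    have he0 : e ≠ 0 := mul_ne_zero (hc.ne_zero (show 7 < chevG2.nroots by decide)) hc0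
    have key : h = goodG2.Hg F 6 c * goodG2.Hg F 9 e := by
      refine Units.ext ?_
      rw [Units.val_mul, hξ, goodG2.Hg_eq six_lt hc0, goodG2.Hg_eq nine_lt he0, dmat_mul]
      refine dmat_congr fun s hs => ?_
      have hP : ∀ s < 12, P chevG2 tabG2 6 s = 2 * tabG2.k 1 s - tabG2.k 0 s ∧
          P chevG2 tabG2 9 s = tabG2.k 0 s := by
        intro s hs
        simp only [P, show chevG2.rank = 2 from rfl, Finset.sum_range_succ, Finset.sum_range_zero,
          zero_add]
        revert s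
        decide +kernel
      rw [hk s hs, prod_two, (hP s hs).1, (hP s hs).2, hc6, he, mul_zpow, mul_zpow, zpow_sub₀ hc0,
        two_mul, zpow_add₀ hc0]
      field_simp
    rw [key, ← phi_sd_eq goodG2 six_lt, ← phi_sd_eq goodG2 nine_lt]
    exact mul_mem (Subgroup.mem_sup_left ⟨sd c, rfl⟩) (Subgroup.mem_sup_right ⟨sd e, rfl⟩)

theorem pair_relIndex [Fintype F] (hodd : Odd (Fintype.card F)) :
    ((f6 F).range ⊔ (f9 F).range).relIndex (bigC F) = 2 := by
  obtain ⟨ν, hν⟩ := FiniteField.exists_nonsquare (F := F) (by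
    intro hc
    have := (FiniteField.even_card_iff_char_two (F := F)).1 hc
    rw [Nat.odd_iff] at hodd
    omega)
  have h2c : ringChar F ≠ 2 := by
    intro hc
    have := (FiniteField.even_card_iff_char_two (F := F)).1 hc
    rw [Nat.odd_iff] at hodd
    omega
  have hν0 : ν ≠ 0 := fun h => hν (h ▸ IsSquare.zero)
  set a := goodG2.Hg F 7 ν with hadef
  have haH : a ∈ chevG2.diagonalSubgroup F := goodG2.Hg_mem (show 7 < chevG2.nroots by decide) hν0
  have haval : (a : Matrix chevG2.Idx chevG2.Idx F) = dmat chevG2 fun s => ν ^ P chevG2 tabG2 7 s :=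
    goodG2.Hg_eq (show 7 < chevG2.nroots by decide) hν0
  have hP : P chevG2 tabG2 7 6 = -3 := by
    simp only [P, show chevG2.rank = 2 from rfl, Finset.sum_range_succ, Finset.sum_range_zero, zero_add]
    decide +kernel
  have ha6 : ¬ IsSquare (ν ^ P chevG2 tabG2 7 6) := by
    rw [hP, zpow_neg, isSquare_inv]
    rintro ⟨r, hr⟩
    refine hν ⟨r / ν, ?_⟩
    rw [zpow_ofNat] at hr
    field_simp
    linear_combination hr
  rw [Subgroup.relIndex, Subgroup.index_eq_two_iff]
  refine ⟨⟨a, Subgroup.mem_sup_right haH⟩, fun ⟨x, hx⟩ => ?_⟩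
  simp only [Subgroup.mem_subgroupOf, Subgroup.coe_mul]
  have hnorm : chevG2.diagonalSubgroup F ≤
      Subgroup.normalizer (((f6 F).range ⊔ (f9 F).range : Subgroup (GL chevG2.Idx F)) : Set (GL chevG2.Idx F)) := by
    intro d hd
    have hgen : ∀ d ∈ chevG2.diagonalSubgroup F, ∀ y ∈ (f6 F).range ⊔ (f9 F).range,
        d * y * d⁻¹ ∈ (f6 F).range ⊔ (f9 F).range := by
      intro d hd y hy
      have hle : (f6 F).range ⊔ (f9 F).range ≤
          ((f6 F).range ⊔ (f9 F).range).comap (MulAut.conj d).toMonoidHom := by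
        have one : ∀ (S : Subgroup (GL chevG2.Idx F)) (r : ℕ), r < chevG2.nroots →
            chevG2.rootSubgroup F r ≤ S →
            chevG2.rootSubgroup F r ≤ S.comap (MulAut.conj d).toMonoidHom := by
          intro S r hr hS z hz
          obtain ⟨t, rfl⟩ := goodG2.mem_rootSubgroup.1 hz
          obtain ⟨-, c, -, e⟩ := goodG2.act_diag hd r hr
          show d * goodG2.X F r t * d⁻¹ ∈ S
          rw [e]
          exact hS (goodG2.mem_rootSubgroup.2 ⟨_, rfl⟩)
        rw [f6, f9, goodG2.phi_range, goodG2.phi_range]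
        exact sup_le
          (sup_le (one _ 6 six_lt (le_sup_left.trans le_sup_left))
            (one _ 5 (by decide) (le_sup_right.trans le_sup_left)))
          (sup_le (one _ 9 nine_lt (le_sup_left.trans le_sup_right))
            (one _ 2 (by decide) (le_sup_right.trans le_sup_right)))
      exact hle hy
    rw [Subgroup.mem_normalizer_iff]
    refine fun y => ⟨hgen d hd y, fun hy => ?_⟩
    have := hgen d⁻¹ (inv_mem hd) _ hy
    simpa [mul_assoc] using this
  have hx' : x ∈ ((((f6 F).range ⊔ (f9 F).range) ⊔ chevG2.diagonalSubgroup F :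
      Subgroup (GL chevG2.Idx F)) : Set (GL chevG2.Idx F)) := hx
  rw [Subgroup.coe_mul_of_right_le_normalizer_left _ _ hnorm] at hx'
  obtain ⟨l, hl, h, hh, rfl⟩ := hx'
  simp only [SetLike.mem_coe] at hl hh
  rw [mul_assoc, Subgroup.mul_mem_cancel_left _ hl, Subgroup.mul_mem_cancel_left _ hl]
  obtain ⟨χ, hχ, hc, -⟩ := diag_val goodG2 hh
  have hha : ((h * a : GL chevG2.Idx F) : Matrix chevG2.Idx chevG2.Idx F) =
      dmat chevG2 fun s => χ s * ν ^ P chevG2 tabG2 7 s := by
    rw [Units.val_mul, hχ, haval, dmat_mul]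
  rw [diag_mem_pair_iff (mul_mem hh haH) hha, diag_mem_pair_iff hh hχ]
  by_cases hs : IsSquare (χ 6)
  · refine Or.inr ⟨hs, fun h => ha6 ?_⟩
    obtain ⟨r, hr⟩ := hs
    obtain ⟨r', hr'⟩ := h
    have hr0 : r ≠ 0 := fun h0 => hc.ne_zero six_lt (by simpa [h0] using hr)
    refine ⟨r' / r, ?_⟩
    field_simp
    linear_combination hr' - ν ^ P chevG2 tabG2 7 6 * hr
  · refine Or.inl ⟨?_, hs⟩
    exact Cfsg.Agent.Lib.KnownA.isSquare_mul_or h2c hs ha6

theorem pair_card [Fintype F] (h2 : (2 : F) ≠ 0) :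
    (f6 F).range ⊓ (f9 F).range = Subgroup.zpowers (tZero F) ∧
      2 * Nat.card ↥((f6 F).range ⊔ (f9 F).range) =
        (Fintype.card F * (Fintype.card F ^ 2 - 1)) ^ 2 := by
  classical
  have hu : (-1 : F) ≠ 0 := neg_ne_zero.2 one_ne_zero
  have hsd6 : f6 F (sd (-1)) = tZero F := phi_sd_eq goodG2 six_lt _
  have hsd9 : f9 F (sd (-1)) = tZero F := (phi_sd_eq goodG2 nine_lt _).trans tZero_eq_nine.symm
  have hsdsq : sd (-1 : F) * sd (-1) = 1 := Subtype.ext (by
    simp only [Matrix.SpecialLinearGroup.coe_mul, sd_val hu]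
    ext i j; fin_cases i <;> fin_cases j <;> simp)
  have htsq : tZero F * tZero F = 1 := by rw [← hsd6, ← map_mul, hsdsq, map_one]
  -- an element of both is central in either
  have central : ∀ A B, f6 F A = f9 F B → A = 1 ∨ A = sd (-1) := by
    intro A B e
    have hz : ∀ C, A * C = C * A := fun C => f6_injective (by
      rw [map_mul, map_mul, e]; exact (f_commute C B).symm.eq)
    have h1 := congrArg Subtype.val (hz (su 1))
    have h3 := congrArg Subtype.val (hz (sl 1))
    simp only [Matrix.SpecialLinearGroup.coe_mul] at h1 h3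
    have a1 := congrFun (congrFun h1 0) 1
    have a2 := congrFun (congrFun h1 0) 0
    have a3 := congrFun (congrFun h3 0) 0
    simp [su, sl, Matrix.mul_apply, Fin.sum_univ_two] at a1 a2 a3
    have hd : A.1 0 0 * A.1 1 1 - A.1 0 1 * A.1 1 0 = 1 := by rw [← Matrix.det_fin_two]; exact A.2
    have e10 : A.1 1 0 = 0 := a2
    have e01 : A.1 0 1 = 0 := a3
    have e11 : A.1 0 0 = A.1 1 1 := by linear_combination a1
    rw [e10, ← e11, mul_zero, sub_zero] at hd
    rcases mul_self_eq_one_iff.1 hd with h | h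
    · left; refine Subtype.ext ?_
      ext i j; fin_cases i <;> fin_cases j <;> simp [e10, e01, ← e11, h]
    · right; refine Subtype.ext ?_
      rw [sd_val hu]
      ext i j; fin_cases i <;> fin_cases j <;> simp [e10, e01, ← e11, h]
  constructor
  · apply le_antisymm
    · rintro x ⟨⟨A, rfl⟩, ⟨B, hB⟩⟩
      rcases central A B hB.symm with rfl | rfl
      · rw [map_one]; exact one_mem _
      · rw [hsd6]; exact Subgroup.mem_zpowers _
    · rw [Subgroup.zpowers_le]
      exact Subgroup.mem_inf.2 ⟨⟨_, hsd6⟩, ⟨_, hsd9⟩⟩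
  · have hker : ((pairHom F).ker : Set (Matrix.SpecialLinearGroup (Fin 2) F × Matrix.SpecialLinearGroup (Fin 2) F)) = {1, (sd (-1 : F), sd (-1 : F))} := by
      ext ⟨A, B⟩
      simp only [SetLike.mem_coe, MonoidHom.mem_ker, Set.mem_insert_iff, Set.mem_singleton_iff]
      show f6 F A * f9 F B = 1 ↔ _
      constructor
      · intro h
        have e : f6 F A = f9 F B⁻¹ := by rw [map_inv]; exact eq_inv_of_mul_eq_one_left h
        rcases central A B⁻¹ e with rfl | rfl
        · left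
          rw [map_one, one_mul] at h
          exact Prod.ext rfl (f9_injective (h.trans (map_one _).symm))
        · right
          refine Prod.ext rfl (f9_injective ?_)
          rw [hsd6] at h
          rw [hsd9]
          calc f9 F B = tZero F * (tZero F * f9 F B) := by rw [← mul_assoc, htsq, one_mul]
            _ = tZero F := by rw [h, mul_one]
      · rintro (h | h)
        · rw [Prod.mk_eq_one] at h; rw [h.1, h.2, map_one, map_one, one_mul]
        · obtain ⟨rfl, rfl⟩ := Prod.ext_iff.1 h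
          rw [hsd6, hsd9, htsq]
    have hne : (sd (-1 : F)) ≠ 1 := by
      intro h
      have := congrArg (fun m : Matrix.SpecialLinearGroup (Fin 2) F => m.1 0 0) h
      simp [sd_val hu] at this
      exact h2 (by linear_combination -this)
    have hk2 : Nat.card (pairHom F).ker = 2 := by
      rw [← SetLike.coe_sort_coe, hker, Nat.card_coe_set_eq, Set.ncard_pair]
      intro h
      exact hne (Prod.ext_iff.1 h).1.symm
    have h := Subgroup.card_mul_index (pairHom F).ker
    rw [Subgroup.index_ker, hk2, Nat.card_prod, Cfsg.Agent.Lib.Classical.card_SL2, pairHom_range] at h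
    rw [h]; ring

theorem bigC_card [Fintype F] (hodd : Odd (Fintype.card F)) :
    Nat.card (bigC F) = Fintype.card F ^ 2 * (Fintype.card F ^ 2 - 1) ^ 2 := by
  have h2 : (2 : F) ≠ 0 := by
    refine Ring.two_ne_zero (R := F) ?_
    intro hc
    have := (FiniteField.even_card_iff_char_two (F := F)).1 hc
    rw [Nat.odd_iff] at hodd
    omega
  have hle : (f6 F).range ⊔ (f9 F).range ≤ bigC F := le_sup_left
  rw [← Subgroup.relIndex_bot_left, ← Subgroup.relIndex_mul_relIndex _ _ _ bot_le hle,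
    Subgroup.relIndex_bot_left, pair_relIndex hodd, mul_comm, (pair_card h2).2, mul_pow]

end Cfsg.Agent.KnownA.G2Invol
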