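import Cfsg.Agent.Lib.Chev.All
import Cfsg.Agent.Lib.Chev.Char
import Cfsg.Agent.Lib.Chev.SL2
import Cfsg.Agent.Lib.Chev.TorusCard
import Mathlib

/-!
The Weyl group of `G₂` as twelve words, diagonal elements by their two fundamental values, and the
monomial involutions lying over a simple reflection.
-/

set_option autoImplicit false
set_option maxRecDepth 100000

namespace Cfsg.Agent.KnownA.G2Invol

open Cfsg.Lie Cfsg.Agent.Lib.Chev

/-- Reduced words of all the elements. -/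
def words : List (List ℕ) :=
  [[], [0], [1], [0, 1], [1, 0], [0, 1, 0], [1, 0, 1], [0, 1, 0, 1], [1, 0, 1, 0],
    [0, 1, 0, 1, 0], [1, 0, 1, 0, 1], [0, 1, 0, 1, 0, 1]]

/-- Agreement on all roots. -/
def same (l l' : List ℕ) : Bool := allLt 12 fun s => wl tabG2 l s == wl tabG2 l' s

/-- The pairs giving the reflections. -/
def reflWords : List (List ℕ × ℕ) := [([], 0), ([], 1), ([1], 0), ([0], 1), ([0, 1], 0), ([1, 0], 1)]

theorem words_closed : ∀ i < 2, ∀ v ∈ words, ∃ v' ∈ words, same (i :: v) v' = true := by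
  decide +kernel

theorem words_isW : ∀ v ∈ words, IsW chevG2 v := by
  show ∀ v ∈ words, ∀ i ∈ v, i < 2
  decide

theorem words_cases : ∀ v ∈ words, same (v ++ v) [] = true →
    v = [] ∨ v = [0, 1, 0, 1, 0, 1] ∨ ∃ p ∈ reflWords, v = p.1 ++ [p.2] ++ p.1.reverse := by
  decide +kernel

theorem same_iff {l l' : List ℕ} : same l l' = true → ∀ s < 12, wl tabG2 l s = wl tabG2 l' s := by
  intro h s hs
  simpa using allLt_eq_true h s hs

theorem wl_cons (i : ℕ) (l : List ℕ) (s : ℕ) : wl tabG2 (i :: l) s = tabG2.w i (wl tabG2 l s) := rfl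

theorem exists_word : ∀ {l : List ℕ}, IsW chevG2 l →
    ∃ v ∈ words, ∀ s < 12, wl tabG2 l s = wl tabG2 v s := by
  intro l
  induction l with
  | nil => exact fun _ => ⟨[], by decide, fun s _ => rfl⟩
  | cons i l ih =>
    intro hl
    obtain ⟨v, hv, e⟩ := ih hl.tail.2
    obtain ⟨v', hv', e'⟩ := words_closed i hl.tail.1 v hv
    refine ⟨v', hv', fun s hs => ?_⟩
    rw [← same_iff e' s hs, wl_cons, wl_cons, e s hs]

variable {D : ChevalleyDatum} {T : Tables} {F : Type*} [Field F]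

theorem factor_of_wl (G : Good D T) {g : GL D.Idx F} {l v : List ℕ} (hg : G.Rep F g l)
    (hv : IsW D v) (e : ∀ s < D.nroots, wl T l s = wl T v s) :
    g * (G.nl F v)⁻¹ ∈ D.diagonalSubgroup F := by
  have hgM := G.monomial_of_rep hg
  refine G.mem_diag_of_act_id (mul_mem hgM (inv_mem (G.nl_mem_monomial hv))) ?_ fun s _ => rfl (a := id s)
  intro r hr
  refine ⟨hr, ?_⟩
  have hr' : wl T v.reverse r < D.nroots := G.wl_lt hv.reverse hr
  obtain ⟨-, c, hc, ec⟩ := G.act_nl (F := F) hv _ hr'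
  obtain ⟨-, c', hc', ec'⟩ := G.rep_act hg _ hr'
  rw [G.wl_wl_reverse hv hr] at ec
  rw [e _ hr', G.wl_wl_reverse hv hr] at ec'
  refine ⟨c' / c, div_ne_zero hc' hc, fun t => ?_⟩
  have h1 := ec (t / c)
  rw [mul_div_cancel₀ _ hc] at h1
  calc g * (G.nl F v)⁻¹ * G.X F r t * (g * (G.nl F v)⁻¹)⁻¹
      = g * G.X F (wl T v.reverse r) (t / c) * g⁻¹ := by rw [← h1]; group
    _ = G.X F r (c' / c * t) := by rw [ec', div_mul_eq_mul_div, mul_div_assoc]

theorem entry_eq_of_dmat_eq {χ χ' : ℕ → F} (h : dmat D χ = dmat D χ') {s : ℕ}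
    (hs : s < D.nroots) : χ s = χ' s := by
  have := congrArg (fun M : Matrix D.Idx D.Idx F => M (Sum.inr ⟨s, hs⟩) (Sum.inr ⟨s, hs⟩)) h
  simpa [dmat] using this

theorem entry_eq_one_of_dmat_eq {χ : ℕ → F} (h : dmat D χ = 1) {s : ℕ}
    (hs : s < D.nroots) : χ s = 1 :=
  entry_eq_of_dmat_eq (χ' := fun _ => (1 : F)) (h.trans dmat_one.symm) hs

theorem diag_val (G : Good D T) {h : GL D.Idx F} (hh : h ∈ D.diagonalSubgroup F) :
    ∃ χ : ℕ → F, (h : Matrix D.Idx D.Idx F) = dmat D χ ∧ IsChar D T χ ∧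
      ∀ s < D.nroots, χ s = ∏ j ∈ Finset.range D.rank, χ (sim D j) ^ T.k j s := by
  obtain ⟨c, hc, e⟩ := G.exists_tor hh
  exact ⟨tor D T c, e, G.isChar_tor fun i _ => hc i, fun s hs => G.tor_eq_prod_sim hc hs⟩

theorem sim_zero : sim chevG2 0 = 7 := rfl
theorem sim_one : sim chevG2 1 = 6 := rfl

theorem prod_two {χ : ℕ → F} (s : ℕ) :
    (∏ j ∈ Finset.range chevG2.rank, χ (sim chevG2 j) ^ tabG2.k j s) =
      χ 7 ^ tabG2.k 0 s * χ 6 ^ tabG2.k 1 s := by
  rw [show chevG2.rank = 2 from rfl, Finset.prod_range_succ, Finset.prod_range_one, sim_zero, sim_one]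

/-- The square of `h ni` read on a root. -/
theorem sq_value {i : ℕ} (hi : i < 2) {h : GL chevG2.Idx F} {χ : ℕ → F}
    (hχ : (h : Matrix chevG2.Idx chevG2.Idx F) = dmat chevG2 χ)
    (h2 : h * goodG2.ni F i * (h * goodG2.ni F i) = 1) {s : ℕ} (hs : s < 12) :
    χ s * χ (tabG2.w i s) * (-1) ^ tabG2.A i s = 1 := by
  have h3 := congrArg (fun g : GL chevG2.Idx F => (g : Matrix chevG2.Idx chevG2.Idx F)) h2
  simp only [Units.val_mul, Units.val_one, hχ] at h3
  have e : dmat chevG2 χ * (goodG2.ni F i : Matrix chevG2.Idx chevG2.Idx F) *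
      (dmat chevG2 χ * (goodG2.ni F i : Matrix chevG2.Idx chevG2.Idx F)) =
      dmat chevG2 χ * ((goodG2.ni F i : Matrix chevG2.Idx chevG2.Idx F) * dmat chevG2 χ) *
        (goodG2.ni F i : Matrix chevG2.Idx chevG2.Idx F) := by simp only [mul_assoc]
  rw [e, goodG2.ni_dmat hi, ← mul_assoc, dmat_mul, mul_assoc] at h3
  simp only [Good.ni] at h3
  rw [goodG2.Ng_mul_Ng_sim hi one_ne_zero one_ne_zero, dmat_mul] at h3
  simpa using entry_eq_one_of_dmat_eq h3 hs

theorem neg_value_square {i : ℕ} (hi : i < 2) {h : GL chevG2.Idx F}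
    (hh : h ∈ chevG2.diagonalSubgroup F)
    (h2 : h * goodG2.ni F i * (h * goodG2.ni F i) = 1) :
    ∃ χ : ℕ → F, (h : Matrix chevG2.Idx chevG2.Idx F) = dmat chevG2 χ ∧ IsChar chevG2 tabG2 χ ∧
      ∃ s : F, s ≠ 0 ∧ s * s = -χ (sim chevG2 i) := by
  obtain ⟨χ, hχ, hc, hk⟩ := diag_val goodG2 hh
  refine ⟨χ, hχ, hc, ?_⟩
  have h7 : χ 7 ≠ 0 := hc.ne_zero (show 7 < chevG2.nroots by decide)
  have h6 : χ 6 ≠ 0 := hc.ne_zero (show 6 < chevG2.nroots by decide)
  interval_cases i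
  · have h := sq_value (i := 0) (by decide) hχ h2 (s := 6) (by decide)
    rw [show tabG2.w 0 6 = 10 by decide +kernel, show tabG2.A 0 6 = -3 by decide +kernel,
      hk 10 (by decide), prod_two, show tabG2.k 0 10 = 3 by decide +kernel,
      show tabG2.k 1 10 = 1 by decide +kernel] at h
    refine ⟨(χ 7 * χ 6)⁻¹, inv_ne_zero (mul_ne_zero h7 h6), ?_⟩
    rw [sim_zero]
    simp [zpow_neg] at h
    have h' : -(χ 7 ^ 3 * χ 6 ^ 2) = 1 := by
      rw [← h]; norm_num [zpow_ofNat]; ring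
    field_simp
    linear_combination -h'
  · have h := sq_value (i := 1) (by decide) hχ h2 (s := 7) (by decide)
    rw [show tabG2.w 1 7 = 8 by decide +kernel, show tabG2.A 1 7 = -1 by decide +kernel,
      hk 8 (by decide), prod_two, show tabG2.k 0 8 = 1 by decide +kernel,
      show tabG2.k 1 8 = 1 by decide +kernel] at h
    refine ⟨(χ 7)⁻¹, inv_ne_zero h7, ?_⟩
    rw [sim_one]
    simp [zpow_neg] at h
    have h' : -(χ 7 ^ 2 * χ 6) = 1 := by
      rw [← h]; ring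
    field_simp
    linear_combination -h'

/-- Conjugation by a diagonal element on the image of `SL₂`. -/
theorem diag_conj_phi (G : Good D T) {r : ℕ} (hr : r < D.nroots) {h : GL D.Idx F} {χ : ℕ → F}
    (hχ : (h : Matrix D.Idx D.Idx F) = dmat D χ) (hc : IsChar D T χ)
    (g g' : Matrix.SpecialLinearGroup (Fin 2) F)
    (e00 : g'.1 0 0 = g.1 0 0) (e11 : g'.1 1 1 = g.1 1 1)
    (e01 : g'.1 0 1 = χ r * g.1 0 1) (e10 : g'.1 1 0 = (χ r)⁻¹ * g.1 1 0) (h10 : g.1 1 0 ≠ 0) :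
    h * G.phi hr g * h⁻¹ = G.phi hr g' := by
  have hr0 : χ r ≠ 0 := hc.ne_zero hr
  have hng : χ (ng D r) = (χ r)⁻¹ := eq_inv_of_mul_eq_one_left (hc.neg r hr)
  have dec : ∀ m : Matrix.SpecialLinearGroup (Fin 2) F, m.1 1 0 ≠ 0 →
      m = su ((m.1 0 0 - 1) / m.1 1 0) * sl (m.1 1 0) * su ((m.1 1 1 - 1) / m.1 1 0) := by
    intro m hm
    have hd : m.1 0 0 * m.1 1 1 - m.1 0 1 * m.1 1 0 = 1 := by rw [← Matrix.det_fin_two]; exact m.2
    refine Subtype.ext ?_
    simp only [Matrix.SpecialLinearGroup.coe_mul]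
    ext a b
    fin_cases a <;> fin_cases b <;> simp [su, sl] <;> field_simp <;>
      first | ring1 | linear_combination hd | linear_combination -hd
  have h10' : g'.1 1 0 ≠ 0 := by rw [e10]; exact mul_ne_zero (inv_ne_zero hr0) h10
  rw [dec g h10, dec g' h10', map_mul, map_mul, map_mul, map_mul, G.phi_su, G.phi_sl, G.phi_su,
    G.phi_su, G.phi_sl, G.phi_su]
  calc h * (G.X F r ((g.1 0 0 - 1) / g.1 1 0) * G.X F (ng D r) (g.1 1 0) *
        G.X F r ((g.1 1 1 - 1) / g.1 1 0)) * h⁻¹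
      = (h * G.X F r ((g.1 0 0 - 1) / g.1 1 0) * h⁻¹) * (h * G.X F (ng D r) (g.1 1 0) * h⁻¹) *
        (h * G.X F r ((g.1 1 1 - 1) / g.1 1 0) * h⁻¹) := by group
    _ = _ := by
      rw [G.diag_conj_X hχ hc hr, G.diag_conj_X hχ hc (G.ng_lt hr), G.diag_conj_X hχ hc hr, hng,
        e00, e11, e10]
      congr 1
      · congr 1
        · congr 1; field_simp
      · congr 1; field_simp

theorem phi_sd_mem (G : Good D T) {r : ℕ} (hr : r < D.nroots) {c : F} (hc : c ≠ 0) :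
    G.phi hr (sd c) ∈ D.diagonalSubgroup F := by
  simp only [sd, map_mul, G.phi_su, G.phi_sl]
  have := G.Hg_mem (F := F) hr hc
  simpa [Good.Hg, Good.Ng, inv_neg] using this

/-- A monomial element over a simple reflection with split characteristic polynomial. -/
theorem conj_ni_diag (G : Good D T) (h2F : (2 : F) ≠ 0) {i : ℕ} (hi : i < D.rank) {h : GL D.Idx F} {χ : ℕ → F}
    (hh : h ∈ D.diagonalSubgroup F) (hχ : (h : Matrix D.Idx D.Idx F) = dmat D χ)
    (hc : IsChar D T χ) {s : F} (hs : s ≠ 0) (hse : s * s = -χ (sim D i)) :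
    ∃ g ∈ D.group F, g * (h * G.ni F i) * g⁻¹ ∈ D.diagonalSubgroup F := by
  have hr := G.sim_lt hi
  set ε := χ (sim D i) with hε
  have he : ε ≠ 0 := hc.ne_zero hr
  let g : Matrix.SpecialLinearGroup (Fin 2) F :=
    ⟨!![-s, -ε; 1 / (2 * ε), -1 / (2 * s)], by rw [Matrix.det_fin_two_of]; field_simp; ring⟩
  let g' : Matrix.SpecialLinearGroup (Fin 2) F :=
    ⟨!![-s, -1; 1 / 2, -1 / (2 * s)], by rw [Matrix.det_fin_two_of]; field_simp; ring⟩
  have hgc : h * G.phi hr g' * h⁻¹ = G.phi hr g :=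
    diag_conj_phi G hr hχ hc g' g (by simp [g, g']) (by simp [g, g']) (by simp [g, g', ← hε])
      (by simp [g, g', ← hε, mul_comm, div_eq_inv_mul, mul_assoc, mul_left_comm])
      (by simp [g', h2F])
  have hni : G.ni F i = G.phi hr sn := by
    simp [sn, map_mul, G.phi_su, G.phi_sl, Good.ni, Good.Ng]
  have hsn : g' * sn * g⁻¹ = sd (s / ε) := by
    refine mul_inv_eq_iff_eq_mul.2 (Subtype.ext ?_)
    simp only [Matrix.SpecialLinearGroup.coe_mul, sd_val (div_ne_zero hs he), sn_val]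
    ext a b
    fin_cases a <;> fin_cases b <;> simp [g, g', Matrix.mul_fin_two] <;> field_simp <;>
      linear_combination hse
  refine ⟨G.phi hr g, (G.phi_range (F := F) hr).le.trans (sup_le (fun x hx => ?_) fun x hx => ?_)
    ⟨g, rfl⟩, ?_⟩
  · obtain ⟨t, rfl⟩ := G.mem_rootSubgroup.1 hx
    exact G.X_mem_group hr t
  · obtain ⟨t, rfl⟩ := G.mem_rootSubgroup.1 hx
    exact G.X_mem_group (G.ng_lt hr) t
  · have : G.phi hr g * (h * G.ni F i) * (G.phi hr g)⁻¹ = h * G.phi hr (g' * sn * g⁻¹) := by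
      rw [map_mul, map_mul, map_inv, ← hni]
      conv_lhs => arg 1; arg 1; rw [← hgc]
      group
    rw [this, hsn]
    exact mul_mem hh (phi_sd_mem G hr (div_ne_zero hs he))

end Cfsg.Agent.KnownA.G2Invol
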