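import Cfsg.Agent.Lib.KnownA.G2Invol.Monomial
import Cfsg.Agent.Lib.KnownA.G2Invol.Words
import Cfsg.Agent.Lib.KnownA.G2Torus.Main
import Mathlib

/-!
All involutions of `G₂(q)`, `q` odd, are conjugate.
-/

set_option autoImplicit false
set_option maxRecDepth 100000

namespace Cfsg.Agent.KnownA.G2Invol

open Cfsg.Lie Cfsg.Agent.Lib.Chev Cfsg.Agent.KnownA.G2Torus
open scoped Matrix

variable {F : Type*} [Field F]

/-- `D g⁻ᵀ D⁻¹`. -/
def theta (d : Fin 3 → F) (hd : ∀ i, d i ≠ 0) :
    Matrix.SpecialLinearGroup (Fin 3) F →* Matrix.SpecialLinearGroup (Fin 3) F where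
  toFun g := ⟨Matrix.diagonal d * ((g⁻¹ : Matrix.SpecialLinearGroup (Fin 3) F).1)ᵀ *
      Matrix.diagonal (fun i => (d i)⁻¹), by
    rw [Matrix.det_mul, Matrix.det_mul, Matrix.det_transpose, (g⁻¹).2, mul_one, ← Matrix.det_mul,
      Matrix.diagonal_mul_diagonal]
    simp [mul_inv_cancel₀ (hd _)]⟩
  map_one' := Subtype.ext (by
    simp only [inv_one, Matrix.SpecialLinearGroup.coe_one, Matrix.transpose_one, mul_one,
      Matrix.diagonal_mul_diagonal]
    simp [mul_inv_cancel₀ (hd _)])
  map_mul' g h := Subtype.ext (by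
    simp only [mul_inv_rev, Matrix.SpecialLinearGroup.coe_mul, Matrix.transpose_mul]
    have e : Matrix.diagonal (fun i => (d i)⁻¹) * Matrix.diagonal d = 1 := by
      rw [Matrix.diagonal_mul_diagonal]; simp [inv_mul_cancel₀ (hd _)]
    have key : ∀ X Y : Matrix (Fin 3) (Fin 3) F,
        Matrix.diagonal d * (X * Y) * Matrix.diagonal (fun i => (d i)⁻¹) =
          Matrix.diagonal d * X * Matrix.diagonal (fun i => (d i)⁻¹) *
            (Matrix.diagonal d * Y * Matrix.diagonal (fun i => (d i)⁻¹)) := by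
      intro X Y
      calc _ = Matrix.diagonal d * X * (Matrix.diagonal (fun i => (d i)⁻¹) * Matrix.diagonal d) * Y *
            Matrix.diagonal (fun i => (d i)⁻¹) := by rw [e, mul_one]; simp only [mul_assoc]
        _ = _ := by simp only [mul_assoc]
    exact key _ _)

theorem theta_val (d : Fin 3 → F) (hd : ∀ i, d i ≠ 0) (g : Matrix.SpecialLinearGroup (Fin 3) F) :
    (theta d hd g).1 = Matrix.diagonal d * ((g⁻¹ : Matrix.SpecialLinearGroup (Fin 3) F).1)ᵀ *
      Matrix.diagonal (fun i => (d i)⁻¹) := rfl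

theorem theta_transvection (d : Fin 3 → F) (hd : ∀ i, d i ≠ 0) {i j : Fin 3} (h : i ≠ j) (b : F) :
    theta d hd (Matrix.SpecialLinearGroup.transvection h b) =
      Matrix.SpecialLinearGroup.transvection h.symm (-(b * d j / d i)) := by
  refine Subtype.ext ?_
  rw [theta_val, inv_transvection]
  change Matrix.diagonal d * (Matrix.transvection i j (-b))ᵀ * _ = Matrix.transvection j i _
  ext a c
  rw [Matrix.mul_diagonal, Matrix.diagonal_mul]
  fin_cases i <;> fin_cases j <;> simp at h <;> fin_cases a <;> fin_cases c <;>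
    simp [Matrix.transvection, Matrix.single, mul_inv_cancel₀ (hd _)] <;> ring

theorem psi_transvection (k : Fin 6) (h : (pos k).1 ≠ (pos k).2) (t : F) :
    psi (Matrix.SpecialLinearGroup.transvection h t) = goodG2.X F (rootOf k).val t := by
  refine Units.ext ?_
  rw [psi_val, inv_transvection, goodG2.X_val, goodG2.x_eq (rootOf k).isLt]
  exact psiMat_transvection k t

theorem psi_t01 (h : (0 : Fin 3) ≠ 1) (t : F) :
    psi (Matrix.SpecialLinearGroup.transvection h t) = goodG2.X F 6 t := psi_transvection 0 h t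
theorem psi_t12 (h : (1 : Fin 3) ≠ 2) (t : F) :
    psi (Matrix.SpecialLinearGroup.transvection h t) = goodG2.X F 10 t := psi_transvection 1 h t
theorem psi_t02 (h : (0 : Fin 3) ≠ 2) (t : F) :
    psi (Matrix.SpecialLinearGroup.transvection h t) = goodG2.X F 11 t := psi_transvection 2 h t
theorem psi_t10 (h : (1 : Fin 3) ≠ 0) (t : F) :
    psi (Matrix.SpecialLinearGroup.transvection h t) = goodG2.X F 5 t := psi_transvection 3 h t
theorem psi_t21 (h : (2 : Fin 3) ≠ 1) (t : F) :
    psi (Matrix.SpecialLinearGroup.transvection h t) = goodG2.X F 1 t := psi_transvection 4 h t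
theorem psi_t20 (h : (2 : Fin 3) ≠ 0) (t : F) :
    psi (Matrix.SpecialLinearGroup.transvection h t) = goodG2.X F 0 t := psi_transvection 5 h t

theorem comm_transvection_02 (h01 : (0 : Fin 3) ≠ 1) (h12 : (1 : Fin 3) ≠ 2) (h02 : (0 : Fin 3) ≠ 2)
    (b : F) : Matrix.SpecialLinearGroup.transvection h01 b * Matrix.SpecialLinearGroup.transvection h12 1 *
      Matrix.SpecialLinearGroup.transvection h01 (-b) * Matrix.SpecialLinearGroup.transvection h12 (-1) =
      Matrix.SpecialLinearGroup.transvection h02 b := by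
  refine Subtype.ext ?_
  change Matrix.transvection 0 1 b * Matrix.transvection 1 2 1 * Matrix.transvection 0 1 (-b) *
    Matrix.transvection 1 2 (-1) = Matrix.transvection 0 2 b
  ext a c
  fin_cases a <;> fin_cases c <;>
    simp [Matrix.transvection, Matrix.single, Matrix.mul_apply, Fin.sum_univ_three]

theorem comm_transvection_20 (h10 : (1 : Fin 3) ≠ 0) (h21 : (2 : Fin 3) ≠ 1) (h20 : (2 : Fin 3) ≠ 0)
    (b : F) : Matrix.SpecialLinearGroup.transvection h21 b * Matrix.SpecialLinearGroup.transvection h10 1 *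
      Matrix.SpecialLinearGroup.transvection h21 (-b) * Matrix.SpecialLinearGroup.transvection h10 (-1) =
      Matrix.SpecialLinearGroup.transvection h20 b := by
  refine Subtype.ext ?_
  change Matrix.transvection 2 1 b * Matrix.transvection 1 0 1 * Matrix.transvection 2 1 (-b) *
    Matrix.transvection 1 0 (-1) = Matrix.transvection 2 0 b
  ext a c
  fin_cases a <;> fin_cases c <;>
    simp [Matrix.transvection, Matrix.single, Matrix.mul_apply, Fin.sum_univ_three]

/-- An involution inverting the roots acts on `SL₃` as a twisted transpose inverse. -/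
theorem longest_twist {n : GL chevG2.Idx F} {l : List ℕ} (hl : goodG2.Rep F n l)
    (h6 : wl tabG2 l 6 = 5) (h10 : wl tabG2 l 10 = 1) (h2 : n * n = 1) :
    ∃ (d : Fin 3 → F) (hd : ∀ i, d i ≠ 0), d 0 = 1 ∧
      ∀ g, n * psi g * n⁻¹ = psi (theta d hd g) := by
  obtain ⟨-, c0, hc0, e0⟩ := goodG2.rep_act hl 6 (show 6 < 12 by decide)
  obtain ⟨-, c1, hc1, e1⟩ := goodG2.rep_act hl 10 (show 10 < 12 by decide)
  rw [h6] at e0
  rw [h10] at e1
  have hninv : n⁻¹ = n := inv_eq_of_mul_eq_one_right h2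
  have back : ∀ (r r' : ℕ) (c : F), c ≠ 0 → (∀ t, n * goodG2.X F r t * n⁻¹ = goodG2.X F r' (c * t)) →
      ∀ t, n * goodG2.X F r' t * n⁻¹ = goodG2.X F r (t / c) := by
    intro r r' c hc e t
    have h := e (t / c)
    rw [mul_div_cancel₀ _ hc] at h
    rw [← h]
    calc n * (n * goodG2.X F r (t / c) * n⁻¹) * n⁻¹
        = (n * n) * goodG2.X F r (t / c) * (n * n)⁻¹ := by group
      _ = goodG2.X F r (t / c) := by rw [h2]; group
  have b0 := back 6 5 c0 hc0 e0
  have b1 := back 10 1 c1 hc1 e1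
  let d : Fin 3 → F := ![1, -c0, c0 * c1]
  have hd : ∀ i, d i ≠ 0 := by intro i; fin_cases i <;> simp [d, hc0, hc1]
  refine ⟨d, hd, rfl, ?_⟩
  set f1 := (MulAut.conj n).toMonoidHom.comp (psi (F := F)) with hf1
  set f2 := (psi (F := F)).comp (theta d hd) with hf2
  suffices h : MonoidHom.eqLocus f1 f2 = ⊤ by
    intro g
    exact (h ▸ Subgroup.mem_top g : g ∈ MonoidHom.eqLocus f1 f2)
  refine Cfsg.Agent.Lib.Classical.SL_eq_top_of_transvection_mem fun i j h b => ?_
  have m01 : ∀ (h : (0 : Fin 3) ≠ 1) (b : F),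
      Matrix.SpecialLinearGroup.transvection h b ∈ MonoidHom.eqLocus f1 f2 := fun h b => by
    show n * psi _ * n⁻¹ = psi (theta d hd _)
    rw [theta_transvection, psi_t01, psi_t10, e0]
    congr 1; simp [d]; ring
  have m12 : ∀ (h : (1 : Fin 3) ≠ 2) (b : F),
      Matrix.SpecialLinearGroup.transvection h b ∈ MonoidHom.eqLocus f1 f2 := fun h b => by
    show n * psi _ * n⁻¹ = psi (theta d hd _)
    rw [theta_transvection, psi_t12, psi_t21, e1]
    congr 1; simp [d]; field_simp
  have m10 : ∀ (h : (1 : Fin 3) ≠ 0) (b : F),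
      Matrix.SpecialLinearGroup.transvection h b ∈ MonoidHom.eqLocus f1 f2 := fun h b => by
    show n * psi _ * n⁻¹ = psi (theta d hd _)
    rw [theta_transvection, psi_t01, psi_t10, b0]
    congr 1; simp [d]; field_simp
  have m21 : ∀ (h : (2 : Fin 3) ≠ 1) (b : F),
      Matrix.SpecialLinearGroup.transvection h b ∈ MonoidHom.eqLocus f1 f2 := fun h b => by
    show n * psi _ * n⁻¹ = psi (theta d hd _)
    rw [theta_transvection, psi_t12, psi_t21, b1]
    congr 1; simp [d]; field_simp
  fin_cases i <;> fin_cases j <;> simp at h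
  · exact m01 _ b
  · rw [← comm_transvection_02 (by decide) (by decide) _ b]
    exact mul_mem (mul_mem (mul_mem (m01 _ _) (m12 _ _)) (m01 _ _)) (m12 _ _)
  · exact m10 _ b
  · exact m12 _ b
  · rw [← comm_transvection_20 (by decide) (by decide) _ b]
    exact mul_mem (mul_mem (mul_mem (m21 _ _) (m10 _ _)) (m21 _ _)) (m10 _ _)
  · exact m21 _ b

/-- Moving an involution off the longest element. -/
theorem leave_longest [Fintype F] (hodd : Odd (Fintype.card F)) {n : GL chevG2.Idx F} {l : List ℕ}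
    (hl : goodG2.Rep F n l) (h6 : wl tabG2 l 6 = 5) (h10 : wl tabG2 l 10 = 1)
    (h11 : wl tabG2 l 11 = 0) (h2 : n * n = 1) :
    ∃ g ∈ chevG2.group F, ∃ l', goodG2.Rep F (g * n * g⁻¹) l' ∧ wl tabG2 l' 11 = 11 := by
  obtain ⟨d, hd, hd0, htw⟩ := longest_twist hl h6 h10 h2
  have h2F : (2 : F) ≠ 0 := by
    refine Ring.two_ne_zero (R := F) ?_
    intro hc
    have := (FiniteField.even_card_iff_char_two (F := F)).1 hc
    rw [Nat.odd_iff] at hodd
    omega
  set e1 := d 1 with he1
  set e2 := d 2 with he2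
  have he10 : e1 ≠ 0 := hd 1
  have he20 : e2 ≠ 0 := hd 2
  obtain ⟨a, b, hab⟩ := FiniteField.exists_root_sum_quadratic (R := F)
    (f := Polynomial.X ^ 2) (g := Polynomial.C e1 * Polynomial.X ^ 2 + Polynomial.C e2)
    (by simp) (by
      rw [Polynomial.degree_add_eq_left_of_degree_lt]
      · rw [Polynomial.degree_C_mul_X_pow 2 he10]; rfl
      · rw [Polynomial.degree_C_mul_X_pow 2 he10, Polynomial.degree_C he20]
        decide)
    (Nat.odd_iff.1 hodd)
  simp at hab
  let k : F := -1 / (2 * e2)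
  let g : Matrix.SpecialLinearGroup (Fin 3) F :=
    ⟨!![a, b, 1; e1 * b, -a, 0; k * a, k * b, -k], by
      rw [Matrix.det_fin_three]; simp [k]; field_simp
      linear_combination (-2) * hab⟩
  set M := g * theta d hd g⁻¹ with hM
  have hMval : M.1 = !![0, 0, 1 / e2; 0, -e2, 0; 1, 0, 0] := by
    rw [hM, Matrix.SpecialLinearGroup.coe_mul, theta_val, inv_inv]
    ext i j
    simp only [Matrix.mul_apply, Matrix.transpose_apply, Matrix.diagonal_apply, Fin.sum_univ_three]
    fin_cases i <;> fin_cases j <;> simp [g, k, hd0, ← he1, ← he2] <;> field_simp <;>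
      first
        | ring1
        | linear_combination hab
        | linear_combination -hab
        | linear_combination 2 * hab
        | linear_combination -2 * hab
        | linear_combination 4 * hab
        | linear_combination -4 * hab
  refine ⟨psi g, psi_mem_group g, ?_⟩
  have econj : psi g * n * (psi g)⁻¹ = psi M * n := by
    rw [hM, map_mul, ← htw, map_inv]; group
  clear_value M
  -- `ψ M` is monomial
  have h02 : (0 : Fin 3) ≠ 2 := by decide
  let N : Matrix.SpecialLinearGroup (Fin 3) F :=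
    Matrix.SpecialLinearGroup.transvection h02 1 * Matrix.SpecialLinearGroup.transvection h02.symm (-1) *
      Matrix.SpecialLinearGroup.transvection h02 1
  let L : Matrix.SpecialLinearGroup (Fin 3) F :=
    ⟨Matrix.diagonal ![(-1 / e2) / (-1), (-1) ^ 2 / (-1 / e2), 1 / (-1)], by
      rw [Matrix.det_diagonal, Fin.prod_univ_three]; simp; field_simp⟩
  have hMN : M = L * N := by
    refine Subtype.ext ?_
    rw [hMval, Matrix.SpecialLinearGroup.coe_mul, Matrix.SpecialLinearGroup.coe_mul,
      Matrix.SpecialLinearGroup.coe_mul]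
    change _ = Matrix.diagonal _ *
      (Matrix.transvection 0 2 1 * Matrix.transvection 2 0 (-1) * Matrix.transvection 0 2 1)
    ext i j
    rw [Matrix.diagonal_mul]
    fin_cases i <;> fin_cases j <;>
      simp [Matrix.transvection, Matrix.single, Matrix.mul_apply, Fin.sum_univ_three] <;> field_simp
  have hu0 : (-1 : F) ≠ 0 := neg_ne_zero.2 one_ne_zero
  have hu1 : -1 / e2 ≠ (0 : F) := div_ne_zero hu0 he20
  have hLd : psi L ∈ chevG2.diagonalSubgroup F := by
    let c : ℕ → F := fun i => if i = 0 then -1 else -1 / e2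
    have hc : ∀ i < chevG2.rank, c i ≠ 0 := fun i _ => by simp only [c]; split <;> assumption
    refine goodG2.mem_diag_of_dmat (psi_mem_group L) (goodG2.isChar_tor hc) ?_
    rw [psiDiag (-1) (-1 / e2) hu0 hu1 L rfl]
    refine dmat_congr fun s _ => ?_
    simp [tor, c, show chevG2.rank = 2 from rfl, Finset.prod_range_succ]
  have hNm : psi N ∈ chevG2.monomialSubgroup F := by
    obtain ⟨ll, hll⟩ : ∃ ll, goodG2.Rep F (goodG2.Ng F 11 1) ll := by
      refine goodG2.exists_rep ?_
      exact Subgroup.mem_sup_right (Subgroup.subset_closure ⟨11, show 11 < 12 by decide, goodG2.Ng_val (show 11 < 12 by decide) 1⟩)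
    have : psi N = goodG2.Ng F 11 1 := by
      simp [N, map_mul, psi_t02, psi_t20, Good.Ng]
      rfl
    rw [this]; exact goodG2.monomial_of_rep hll
  have hMm : psi M * n ∈ chevG2.monomialSubgroup F := by
    rw [hMN, map_mul]
    exact mul_mem (mul_mem (Good.diagonal_le_monomial hLd) hNm) (goodG2.monomial_of_rep hl)
  obtain ⟨l', hl'⟩ := goodG2.exists_rep hMm
  refine ⟨l', by rw [econj]; exact hl', ?_⟩
  obtain ⟨hlt, c, hc, e⟩ := goodG2.rep_act hl' 11 (show 11 < 12 by decide)
  have key : psi M * n * goodG2.X F 11 1 * (psi M * n)⁻¹ = goodG2.X F 11 (-1) := by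
    rw [← psi_t02 h02]
    calc psi M * n * psi (Matrix.SpecialLinearGroup.transvection h02 1) * (psi M * n)⁻¹
        = psi M * (n * psi (Matrix.SpecialLinearGroup.transvection h02 1) * n⁻¹) * (psi M)⁻¹ := by
          group
      _ = psi (M * theta d hd (Matrix.SpecialLinearGroup.transvection h02 1) * M⁻¹) := by
          rw [htw, map_mul, map_mul, map_inv]
      _ = psi (Matrix.SpecialLinearGroup.transvection h02 (-1)) := by
          refine congrArg psi (mul_inv_eq_iff_eq_mul.2 (Subtype.ext ?_))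
          rw [theta_transvection, Matrix.SpecialLinearGroup.coe_mul, Matrix.SpecialLinearGroup.coe_mul,
            hMval]
          change _ * Matrix.transvection 2 0 _ = Matrix.transvection 0 2 (-1) * _
          ext i j
          fin_cases i <;> fin_cases j <;>
            simp [Matrix.transvection, Matrix.single, Matrix.mul_apply, Fin.sum_univ_three, hd0, ← he2] <;>
            field_simp
      _ = goodG2.X F 11 (-1) := psi_t02 h02 (-1)
  exact goodG2.X_root_inj hlt (show 11 < 12 by decide) (mul_ne_zero hc one_ne_zero)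
    ((e 1).symm.trans key)

/-- An involution of the monomial group not over the longest element. -/
theorem mono_conj_diag [Fintype F] (hodd : Odd (Fintype.card F)) {n : GL chevG2.Idx F} {l : List ℕ}
    (hl : goodG2.Rep F n l) (h2 : n * n = 1) :
    (∃ g ∈ chevG2.group F, g * n * g⁻¹ ∈ chevG2.diagonalSubgroup F) ∨
      (wl tabG2 l 6 = 5 ∧ wl tabG2 l 10 = 1 ∧ wl tabG2 l 11 = 0) := by
  have h2F : (2 : F) ≠ 0 := by
    refine Ring.two_ne_zero (R := F) ?_
    intro hc
    have := (FiniteField.even_card_iff_char_two (F := F)).1 hc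
    rw [Nat.odd_iff] at hodd
    omega
  obtain ⟨v, hv, ev⟩ := exists_word hl.1
  have hW := words_isW v hv
  have hsq : ∀ s < 12, wl tabG2 (v ++ v) s = s := by
    intro s hs
    have h1 : goodG2.Rep F (n * n) (l ++ l) := goodG2.rep_mul hl hl
    have h3 := goodG2.act_unique (goodG2.rep_act h1)
      (h2 ▸ goodG2.act_diag (one_mem _)) (r := s) hs
    rw [wl_append, ev s hs, ev _ (goodG2.wl_lt hW hs)] at h3
    rw [wl_append]; exact h3
  have hsame : same (v ++ v) [] = true := by
    rw [same]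
    have : ∀ s < 12, (wl tabG2 (v ++ v) s == wl tabG2 [] s) = true := fun s hs => by
      simp [hsq s hs, wl]
    revert this
    revert hv
    generalize v = w
    intro hv
    revert w
    decide +kernel
  rcases words_cases v hv hsame with rfl | rfl | ⟨⟨x, i⟩, hp, rfl⟩
  · refine Or.inl ⟨1, one_mem _, ?_⟩
    have := factor_of_wl goodG2 hl isW_nil ev
    simpa [goodG2.nl_nil] using this
  · refine Or.inr ⟨?_, ?_, ?_⟩
    · rw [ev 6 (by decide)]; decide +kernel
    · rw [ev 10 (by decide)]; decide +kernel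
    · rw [ev 11 (by decide)]; decide +kernel
  · left
    have hxW : IsW chevG2 x := hW.left.left
    have hi : i < chevG2.rank := hW.left.right i (by simp)
    have hh0 := factor_of_wl goodG2 hl hW ev
    set h0 := n * (goodG2.nl F (x ++ [i] ++ x.reverse))⁻¹ with hh0def
    set m := goodG2.nl F x with hm
    set m' := goodG2.nl F x.reverse with hm'
    have hmm' : m' * m ∈ chevG2.diagonalSubgroup F := by
      rw [hm, hm', ← goodG2.nl_append]
      refine goodG2.nl_mem_diag _ rfl (hxW.reverse.append hxW) fun s hs => ?_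
      rw [wl_append, goodG2.wl_reverse_wl hxW hs]
    have hmG : m ∈ chevG2.monomialSubgroup F := goodG2.nl_mem_monomial hxW
    have hmconj : m⁻¹ * h0 * m ∈ chevG2.diagonalSubgroup F := by
      have := (Subgroup.mem_normalizer_iff.1 (goodG2.monomial_le_normalizer (inv_mem hmG)) h0).1 hh0
      simpa using this
    have hni := goodG2.ni_mem_monomial (F := F) hi
    set h' := m⁻¹ * h0 * m * (goodG2.ni F i * (m' * m) * (goodG2.ni F i)⁻¹) with hh'
    have hh'd : h' ∈ chevG2.diagonalSubgroup F :=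
      mul_mem hmconj ((Subgroup.mem_normalizer_iff.1 (goodG2.monomial_le_normalizer hni) _).1 hmm')
    have en : m⁻¹ * n * m = h' * goodG2.ni F i := by
      have : n = h0 * (m * goodG2.ni F i * m') := by
        rw [hh0def, goodG2.nl_append, goodG2.nl_append, goodG2.nl_single, ← hm, ← hm']; group
      rw [this, hh']; group
    have h2' : h' * goodG2.ni F i * (h' * goodG2.ni F i) = 1 := by
      rw [← en]
      calc m⁻¹ * n * m * (m⁻¹ * n * m) = m⁻¹ * (n * n) * m := by group
        _ = 1 := by rw [h2]; group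
    obtain ⟨χ, hχ, hc, s, hs, hse⟩ := neg_value_square (show i < 2 from hi) hh'd h2'
    obtain ⟨g, hg, hgd⟩ := conj_ni_diag goodG2 h2F hi hh'd hχ hc hs hse
    refine ⟨g * m⁻¹, mul_mem hg (inv_mem (goodG2.monomial_le_group hmG)), ?_⟩
    rw [← en] at hgd
    simpa [mul_assoc] using hgd

theorem invol_conj_diag [Fintype F] (hodd : Odd (Fintype.card F)) {t : GL chevG2.Idx F}
    (ht : t ∈ chevG2.group F) (h2 : t * t = 1) :
    ∃ g ∈ chevG2.group F, g * t * g⁻¹ ∈ chevG2.diagonalSubgroup F := by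
  obtain ⟨g, hg, n, hn, rfl, hn2⟩ := invol_conj_monomial goodG2 hodd ht h2
  obtain ⟨l, hl⟩ := goodG2.exists_rep hn
  rcases mono_conj_diag hodd hl hn2 with ⟨k, hk, hkd⟩ | ⟨h6, h10, h11⟩
  · exact ⟨k * g, mul_mem hk hg, by simpa [mul_assoc] using hkd⟩
  obtain ⟨k, hk, l', hl', h11'⟩ := leave_longest hodd hl h6 h10 h11 hn2
  have hk2 : k * (g * t * g⁻¹) * k⁻¹ * (k * (g * t * g⁻¹) * k⁻¹) = 1 := by
    calc _ = k * (g * t * g⁻¹ * (g * t * g⁻¹)) * k⁻¹ := by group
      _ = 1 := by rw [hn2]; group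
  rcases mono_conj_diag hodd hl' hk2 with ⟨k', hk', hkd⟩ | ⟨-, -, h⟩
  · exact ⟨k' * k * g, mul_mem (mul_mem hk' hk) hg, by simpa [mul_assoc] using hkd⟩
  · rw [h11'] at h; omega

/-- The involution `h_b(-1)`. -/
def tZero (F : Type*) [Field F] : GL chevG2.Idx F := goodG2.Hg F 6 (-1)

theorem diag_conj_tZero {h : GL chevG2.Idx F} (hh : h ∈ chevG2.diagonalSubgroup F)
    (h2 : h * h = 1) (h1 : h ≠ 1) :
    ∃ g ∈ chevG2.group F, g * h * g⁻¹ = tZero F := by
  obtain ⟨χ, hχ, hc, hk⟩ := diag_val goodG2 hh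
  have hsq : ∀ s < 12, χ s = 1 ∨ χ s = -1 := by
    intro s hs
    have h3 := congrArg (fun g : GL chevG2.Idx F => (g : Matrix chevG2.Idx chevG2.Idx F)) h2
    simp only [Units.val_mul, Units.val_one, hχ, dmat_mul] at h3
    exact mul_self_eq_one_iff.1 (entry_eq_one_of_dmat_eq h3 hs)
  have hne : ¬ (χ 7 = 1 ∧ χ 6 = 1) := by
    rintro ⟨a, b⟩
    refine h1 (Units.ext ?_)
    rw [hχ, Units.val_one, ← dmat_one]
    exact dmat_congr fun s hs => by rw [hk s hs, prod_two, a, b]; simp
  have hu : (-1 : F) ≠ 0 := neg_ne_zero.2 one_ne_zero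
  have ht : (tZero F : Matrix chevG2.Idx chevG2.Idx F) =
      dmat chevG2 fun s => (-1 : F) ^ P chevG2 tabG2 6 s :=
    goodG2.Hg_eq (show 6 < 12 by decide) hu
  -- two diagonal elements with the same fundamental values agree
  have eqT : ∀ {g : GL chevG2.Idx F} {ξ : ℕ → F}, (g : Matrix chevG2.Idx chevG2.Idx F) = dmat chevG2 ξ →
      (∀ s < 12, ξ s = ξ 7 ^ tabG2.k 0 s * ξ 6 ^ tabG2.k 1 s) → ξ 7 = -1 → ξ 6 = 1 → g = tZero F := by
    intro g ξ hg hξ a b
    refine Units.ext ?_
    rw [hg, ht]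
    refine dmat_congr fun s hs => ?_
    rw [hξ s hs, a, b, one_zpow, mul_one]
    have : ∀ s < 12, (tabG2.k 0 s - P chevG2 tabG2 6 s) % 2 = 0 := by
      intro s hs
      simp only [P, show chevG2.rank = 2 from rfl, Finset.sum_range_succ, Finset.sum_range_zero,
        zero_add]
      revert s
      decide +kernel
    obtain ⟨m, hm⟩ : Even (tabG2.k 0 s - P chevG2 tabG2 6 s) := Int.even_iff.2 (this s hs)
    rw [show tabG2.k 0 s = P chevG2 tabG2 6 s + 2 * m by omega, zpow_add₀ hu, zpow_mul]
    simp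
  -- conjugation by a fundamental reflection
  have move : ∀ {g : GL chevG2.Idx F} {ξ : ℕ → F} {i : ℕ}, i < 2 →
      (g : Matrix chevG2.Idx chevG2.Idx F) = dmat chevG2 ξ →
      ((goodG2.ni F i * g * (goodG2.ni F i)⁻¹ : GL chevG2.Idx F) : Matrix chevG2.Idx chevG2.Idx F) =
        dmat chevG2 (fun s => ξ (tabG2.w i s)) := by
    intro g ξ i hi hg
    rw [Units.val_mul, Units.val_mul, hg, goodG2.ni_dmat hi, mul_assoc, Units.mul_inv, mul_one]
  have hk' : ∀ s < 12, χ s = χ 7 ^ tabG2.k 0 s * χ 6 ^ tabG2.k 1 s := fun s hs => by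
    rw [hk s hs, prod_two]
  have hkw : ∀ i < 2, ∀ s < 12, χ (tabG2.w i s) =
      χ (tabG2.w i 7) ^ tabG2.k 0 s * χ (tabG2.w i 6) ^ tabG2.k 1 s := by
    intro i hi s hs
    obtain ⟨ξ, hξ, -, hξk⟩ := diag_val goodG2
      ((Subgroup.mem_normalizer_iff.1
        (goodG2.monomial_le_normalizer (goodG2.ni_mem_monomial (F := F) (show i < chevG2.rank from hi))) h).1 hh)
    rw [move hi hχ] at hξ
    have e := fun s hs => entry_eq_of_dmat_eq hξ (s := s) hs
    rw [e s hs, e 7 (show 7 < 12 by decide), e 6 (show 6 < 12 by decide), hξk s hs, prod_two]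
  rcases hsq 7 (by decide) with a | a <;> rcases hsq 6 (by decide) with b | b
  · exact absurd ⟨a, b⟩ hne
  · -- `(1, -1)`: first the short, then the long reflection
    refine ⟨goodG2.ni F 0 * goodG2.ni F 1, mul_mem (goodG2.ni_mem_group (show 0 < 2 by decide))
      (goodG2.ni_mem_group (show 1 < 2 by decide)), ?_⟩
    have e1 := move (i := 1) (by decide) hχ
    have e2 := move (i := 0) (by decide) e1
    rw [show goodG2.ni F 0 * goodG2.ni F 1 * h * (goodG2.ni F 0 * goodG2.ni F 1)⁻¹ =
      goodG2.ni F 0 * (goodG2.ni F 1 * h * (goodG2.ni F 1)⁻¹) * (goodG2.ni F 0)⁻¹ by group]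
    refine eqT e2 ?_ ?_ ?_
    · intro s hs
      obtain ⟨ξ, hξ, -, hξk⟩ := diag_val goodG2
        ((Subgroup.mem_normalizer_iff.1
          (goodG2.monomial_le_normalizer (goodG2.ni_mem_monomial (F := F) (show 0 < chevG2.rank by decide))) _).1
          ((Subgroup.mem_normalizer_iff.1
            (goodG2.monomial_le_normalizer (goodG2.ni_mem_monomial (F := F) (show 1 < chevG2.rank by decide))) h).1 hh))
      rw [e2] at hξ
      have e := fun s hs => entry_eq_of_dmat_eq hξ (s := s) hs
      rw [e s hs, e 7 (show 7 < 12 by decide), e 6 (show 6 < 12 by decide), hξk s hs, prod_two]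
    · show χ (tabG2.w 1 (tabG2.w 0 7)) = -1
      rw [show tabG2.w 1 (tabG2.w 0 7) = 3 by decide +kernel, hk' 3 (by decide), a, b,
        show tabG2.k 0 3 = -1 by decide +kernel, show tabG2.k 1 3 = -1 by decide +kernel]
      norm_num
    · show χ (tabG2.w 1 (tabG2.w 0 6)) = 1
      rw [show tabG2.w 1 (tabG2.w 0 6) = 11 by decide +kernel, hk' 11 (by decide), a, b,
        show tabG2.k 0 11 = 3 by decide +kernel, show tabG2.k 1 11 = 2 by decide +kernel]
      norm_num
  · exact ⟨1, one_mem _, by rw [inv_one, mul_one, one_mul]; exact eqT hχ hk' a b⟩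
  · refine ⟨goodG2.ni F 0, goodG2.ni_mem_group (show 0 < 2 by decide), ?_⟩
    refine eqT (move (by decide) hχ) (hkw 0 (by decide)) ?_ ?_
    · show χ (tabG2.w 0 7) = -1
      rw [show tabG2.w 0 7 = 4 by decide +kernel, hk' 4 (by decide), a, b,
        show tabG2.k 0 4 = -1 by decide +kernel, show tabG2.k 1 4 = 0 by decide +kernel]
      norm_num
    · show χ (tabG2.w 0 6) = 1
      rw [show tabG2.w 0 6 = 10 by decide +kernel, hk' 10 (by decide), a, b,
        show tabG2.k 0 10 = 3 by decide +kernel, show tabG2.k 1 10 = 1 by decide +kernel]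
      norm_num

theorem invol_conj_tZero [Fintype F] (hodd : Odd (Fintype.card F)) {t : GL chevG2.Idx F}
    (ht : t ∈ chevG2.group F) (h2 : t * t = 1) (h1 : t ≠ 1) :
    ∃ g ∈ chevG2.group F, g * t * g⁻¹ = tZero F := by
  obtain ⟨g, hg, hd⟩ := invol_conj_diag hodd ht h2
  obtain ⟨k, hk, e⟩ := diag_conj_tZero hd (by
      calc g * t * g⁻¹ * (g * t * g⁻¹) = g * (t * t) * g⁻¹ := by group
        _ = 1 := by rw [h2]; group)
    (fun e => h1 (by
      calc t = g⁻¹ * (g * t * g⁻¹) * g := by group
        _ = 1 := by rw [e]; group))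
  exact ⟨k * g, mul_mem hk hg, by rw [← e]; group⟩

end Cfsg.Agent.KnownA.G2Invol
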