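import Cfsg.Agent.Lib.Chev.NormalForm
import Cfsg.Agent.Lib.Chev.Char
import Mathlib

/-!
In odd characteristic every involution of a Chevalley group is conjugate to a monomial one.
-/

set_option autoImplicit false

namespace Cfsg.Agent.KnownA.G2Invol

open Cfsg.Lie Cfsg.Agent.Lib.Chev

variable {D : ChevalleyDatum} {T : Tables} {F : Type*} [Field F]

theorem invol_conj_monomial [Fintype F] (G : Good D T) (hodd : Odd (Fintype.card F))
    {t : GL D.Idx F} (ht : t ∈ D.group F) (h2 : t * t = 1) :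
    ∃ g ∈ D.group F, ∃ n ∈ D.monomialSubgroup F, g * t * g⁻¹ = n ∧ n * n = 1 := by
  obtain ⟨b, hb, n, l, hl, u, hu, e⟩ := G.exists_normal_form ht
  obtain ⟨v, hv, h, hh, rfl⟩ := G.mem_borel.1 hb
  have hn := G.monomial_of_rep hl
  set n0 := h * n with hn0def
  have hn0 : n0 ∈ D.monomialSubgroup F := mul_mem (Good.diagonal_le_monomial hh) hn
  set w := u * v with hwdef
  have hw : w ∈ D.posUnipotent F := mul_mem (G.USub_le_pos _ hu) hv
  have hvG : v ∈ D.group F := G.borel_le_group (Subgroup.mem_sup_left hv)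
  have e' : v⁻¹ * t * v = n0 * w := by rw [e, hn0def, hwdef]; group
  have h2' : n0 * w * (n0 * w) = 1 := by
    rw [← e']
    calc v⁻¹ * t * v * (v⁻¹ * t * v) = v⁻¹ * (t * t) * v := by group
      _ = 1 := by rw [h2]; group
  have hinv : 1 * n0 * w = w⁻¹ * n0⁻¹ * 1 := by
    have := eq_inv_of_mul_eq_one_left h2'
    rw [mul_inv_rev] at this
    simpa using this
  have hd0 := G.normal_form_coset (one_mem _) (inv_mem (Subgroup.mem_sup_left hw)) hn0
    (inv_mem hn0) hw (one_mem _) hinv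
  have hd : n0 * n0 ∈ D.diagonalSubgroup F := by
    have := inv_mem hd0
    simpa using this
  set d := n0 * n0 with hddef
  set y := n0 * w * n0⁻¹ with hydef
  have hy : y = w⁻¹ * d⁻¹ := by
    refine eq_mul_inv_of_mul_eq ?_
    refine eq_inv_of_mul_eq_one_left ?_
    rw [← h2', hydef, hddef]; group
  set N := Fintype.card F ^ (D.nroots / 2) with hN
  have hwN : w ^ N = 1 := by
    have h1 : (⟨w, hw⟩ : D.posUnipotent F) ^ N = 1 := by
      rw [hN, ← G.card_pos]
      exact pow_card_eq_one'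
    simpa using congrArg Subtype.val h1
  have hyN : y ^ N = 1 := by
    rw [hydef, conj_pow, hwN, mul_one, mul_inv_cancel]
  have hpow : ∀ k : ℕ, ∃ x ∈ D.posUnipotent F, (w⁻¹ * d⁻¹) ^ k = x * d⁻¹ ^ k := by
    intro k
    induction k with
    | zero => exact ⟨1, one_mem _, by simp⟩
    | succ k ih =>
      obtain ⟨x, hx, ex⟩ := ih
      refine ⟨x * (d⁻¹ ^ k * w⁻¹ * (d⁻¹ ^ k)⁻¹), mul_mem hx ?_, ?_⟩
      · exact (Subgroup.mem_normalizer_iff.1 (G.diag_normalizes_pos (pow_mem (inv_mem hd) k)) _).1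
          (inv_mem hw)
      · rw [pow_succ, ex, pow_succ]; group
  have hdN : d⁻¹ ^ N = 1 := by
    obtain ⟨x, hx, ex⟩ := hpow N
    rw [← hy, hyN] at ex
    have hx' : d⁻¹ ^ N = x⁻¹ := eq_inv_of_mul_eq_one_right ex.symm
    refine Subgroup.mem_bot.1 (G.pos_inf_diag (F := F) ▸ Subgroup.mem_inf.2 ⟨?_, pow_mem (inv_mem hd) _⟩)
    rw [hx']; exact inv_mem hx
  have hd1 : d = 1 := by
    have hA : orderOf d⁻¹ ∣ N := orderOf_dvd_of_pow_eq_one hdN
    have hB : orderOf d⁻¹ ∣ (Fintype.card F - 1) ^ D.rank := by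
      refine Dvd.dvd.trans ?_ (G.diag_card_dvd (F := F))
      exact Subgroup.orderOf_dvd_natCard _ (inv_mem hd)
    have hco : Nat.Coprime N ((Fintype.card F - 1) ^ D.rank) := by
      refine Nat.Coprime.pow _ _ ?_
      rw [Nat.coprime_self_sub_right Fintype.card_pos]
      simp
    have h1 : orderOf d⁻¹ = 1 := Nat.eq_one_of_dvd_coprimes hco hA hB
    rw [orderOf_eq_one_iff, inv_eq_one] at h1
    exact h1
  have hy' : y = w⁻¹ := by rw [hy, hd1, inv_one, mul_one]
  have hNodd : Odd N := hodd.pow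
  obtain ⟨m, hm⟩ := hNodd
  set s := w ^ (m + 1) with hs
  have hss : s * s = w := by
    rw [hs, ← pow_add, show m + 1 + (m + 1) = N + 1 by omega, pow_succ, hwN, one_mul]
  have hns : n0 * s * n0⁻¹ = s⁻¹ := by
    rw [hs, ← conj_pow, ← hydef, hy', inv_pow]
  have hfin : v⁻¹ * t * v = s⁻¹ * n0 * s := by
    rw [e', ← hns, ← hss]; group
  refine ⟨s * v⁻¹, mul_mem (pow_mem (G.borel_le_group (Subgroup.mem_sup_left hw)) _) (inv_mem hvG),
    n0, hn0, ?_, hd1⟩
  calc s * v⁻¹ * t * (s * v⁻¹)⁻¹ = s * (v⁻¹ * t * v) * s⁻¹ := by group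
    _ = n0 := by rw [hfin]; group

end Cfsg.Agent.KnownA.G2Invol
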